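import Groth.Agent.IdealSh.Stalk
import Groth.Agent.SDivFib.Basic
import Groth.Agent.CartDiv.Local
import Groth.Agent.CDivLib.Generisation
import Groth.Agent.CycLib.SpecPt

/-!
# Ideal sheaves from locally principal families of stalk ideals
-/

set_option autoImplicit false
set_option linter.style.haveILetI false

universe u

open CategoryTheory AlgebraicGeometry TopologicalSpace Opposite

noncomputable section

namespace Groth.Agent.Div61

open IntMult (stalkIdeal)

variable {X : Scheme.{u}}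

theorem exists_point_of_prime' (U : X.affineOpens) (P : Ideal Γ(X, U.1)) [P.IsPrime] :
    ∃ (z : X) (hz : z ∈ U.1), ∀ s, IsUnit (X.presheaf.germ U.1 z hz s) ↔ s ∉ P := by
  let q : PrimeSpectrum Γ(X, U.1) := ⟨P, inferInstance⟩
  haveI := IsAffineOpen.isOpenImmersion_fromSpec U.2
  have hz : U.2.fromSpec q ∈ U.1 := U.2.range_fromSpec.le ⟨q, rfl⟩
  have hP : U.2.primeIdealOf ⟨U.2.fromSpec q, hz⟩ = q :=
    U.2.fromSpec.isOpenEmbedding.injective (U.2.fromSpec_primeIdealOf _)
  refine ⟨_, hz, fun s => ?_⟩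
  letI := TopCat.Presheaf.algebra_section_stalk X.presheaf (⟨U.2.fromSpec q, hz⟩ : U.1)
  haveI := U.2.isLocalization_stalk ⟨U.2.fromSpec q, hz⟩
  show IsUnit (algebraMap Γ(X, U.1) (X.presheaf.stalk (U.2.fromSpec q)) s) ↔ _
  rw [IsLocalization.AtPrime.isUnit_to_map_iff (X.presheaf.stalk (U.2.fromSpec q))
    (U.2.primeIdealOf ⟨U.2.fromSpec q, hz⟩).asIdeal, hP]
  rfl

/-- A multiplier moving a section into an ideal, invertible near a point. -/
theorem exists_mul_mem_of_germ (U : X.affineOpens) (L : Ideal Γ(X, U.1)) (t : Γ(X, U.1)) {z : X} (hz : z ∈ U.1)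
    (h : X.presheaf.germ U.1 z hz t ∈ L.map (X.presheaf.germ U.1 z hz).hom) :
    ∃ s, IsUnit (X.presheaf.germ U.1 z hz s) ∧ s * t ∈ L := by
  letI := TopCat.Presheaf.algebra_section_stalk X.presheaf (⟨z, hz⟩ : U.1)
  haveI := U.2.isLocalization_stalk ⟨z, hz⟩
  obtain ⟨s, hs, hst⟩ := (IsLocalization.algebraMap_mem_map_algebraMap_iff
    (U.2.primeIdealOf ⟨z, hz⟩).asIdeal.primeCompl (X.presheaf.stalk z) L t).mp h
  exact ⟨s, (IsLocalization.AtPrime.isUnit_to_map_iff (X.presheaf.stalk z)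
    (U.2.primeIdealOf ⟨z, hz⟩).asIdeal s).mpr hs, hst⟩

/-- Membership in an ideal of sections is local. -/
theorem mem_of_germ (U : X.affineOpens) (L : Ideal Γ(X, U.1)) (t : Γ(X, U.1))
    (h : ∀ (z : X) (hz : z ∈ U.1), X.presheaf.germ U.1 z hz t ∈ L.map (X.presheaf.germ U.1 z hz).hom) :
    t ∈ L := by
  by_contra hne
  have hK : L.colon {t} ≠ ⊤ := fun htop => hne (by
    have h1 : (1 : Γ(X, U.1)) ∈ L.colon {t} := htop ▸ trivial
    simpa [Submodule.mem_colon_singleton] using h1)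
  obtain ⟨P, hP, hle⟩ := Ideal.exists_le_maximal _ hK
  obtain ⟨z, hz, hiff⟩ := exists_point_of_prime' U P
  obtain ⟨s, hs, hst⟩ := exists_mul_mem_of_germ U L t hz (h z hz)
  exact (hiff s).mp hs (hle (by simpa [Submodule.mem_colon_singleton] using hst))

theorem germ_pow_mul_cancel {U : X.Opens} {z : X} (hz : z ∈ U) {s t : Γ(X, U)} {J : Ideal (X.presheaf.stalk z)}
    (hs : IsUnit (X.presheaf.germ U z hz s)) (h : X.presheaf.germ U z hz (s * t) ∈ J) :
    X.presheaf.germ U z hz t ∈ J := by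
  rw [map_mul] at h
  exact (Ideal.unit_mul_mem_iff_mem J hs).mp h

variable (I : ∀ z : X, Ideal (X.presheaf.stalk z))

/-- Sections with all germs in a family of stalk ideals. -/
def sectIdeal (U : X.affineOpens) : Ideal Γ(X, U.1) :=
  ⨅ (z : X) (hz : z ∈ U.1), (I z).comap (X.presheaf.germ U.1 z hz).hom

theorem mem_sectIdeal {U : X.affineOpens} {t : Γ(X, U.1)} :
    t ∈ sectIdeal I U ↔ ∀ (z : X) (hz : z ∈ U.1), X.presheaf.germ U.1 z hz t ∈ I z := by
  simp [sectIdeal, Ideal.mem_comap]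

/-- The family is locally principal. -/
def LocPrincipal : Prop :=
  ∀ z : X, ∃ (V : X.affineOpens) (a : Γ(X, V.1)), z ∈ V.1 ∧
    ∀ (w : X) (hw : w ∈ V.1), I w = Ideal.span {X.presheaf.germ V.1 w hw a}

variable {I}

theorem exists_gen_basicOpen (hI : LocPrincipal I) (U : X.affineOpens) {z : X} (hz : z ∈ U.1) :
    ∃ g r : Γ(X, U.1), z ∈ X.basicOpen g ∧
      ∀ (w : X) (hw : w ∈ X.basicOpen g), I w = Ideal.span {X.presheaf.germ U.1 w (X.basicOpen_le g hw) r} := by
  obtain ⟨V, a, hzV, ha⟩ := hI z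
  obtain ⟨g, hg, hzg⟩ := U.2.exists_basicOpen_le ⟨z, hzV⟩ hz
  letI : Algebra Γ(X, U.1) Γ(X, X.basicOpen g) := (X.presheaf.map (homOfLE (X.basicOpen_le g)).op).hom.toAlgebra
  haveI : IsLocalization.Away g Γ(X, X.basicOpen g) := U.2.isLocalization_basicOpen g
  obtain ⟨⟨r, t⟩, ht⟩ := IsLocalization.surj (Submonoid.powers g) (X.presheaf.map (homOfLE hg).op a)
  obtain ⟨k, hk⟩ := t.2
  refine ⟨g, r, hzg, fun w hw => ?_⟩
  have h1 := congrArg (X.presheaf.germ (X.basicOpen g) w hw) ht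
  rw [map_mul, TopCat.Presheaf.germ_res_apply] at h1
  simp only at h1
  rw [show X.presheaf.germ (X.basicOpen g) w hw (algebraMap Γ(X, U.1) Γ(X, X.basicOpen g) r) =
      X.presheaf.germ U.1 w (X.basicOpen_le g hw) r from TopCat.Presheaf.germ_res_apply _ _ _ _ _,
    show X.presheaf.germ (X.basicOpen g) w hw (algebraMap Γ(X, U.1) Γ(X, X.basicOpen g) t.1) =
      X.presheaf.germ U.1 w (X.basicOpen_le g hw) t.1 from TopCat.Presheaf.germ_res_apply _ _ _ _ _] at h1
  rw [ha w (hg hw), ← h1]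
  refine (Ideal.span_singleton_mul_right_unit ?_ _).symm
  rw [← hk, map_pow]
  exact ((X.mem_basicOpen g w (X.basicOpen_le g hw)).mp hw).pow k

theorem map_sectIdeal (hI : LocPrincipal I) (U : X.affineOpens) {y : X} (hy : y ∈ U.1) :
    (sectIdeal I U).map (X.presheaf.germ U.1 y hy).hom = I y := by
  classical
  refine le_antisymm (Ideal.map_le_iff_le_comap.mpr fun t ht => (mem_sectIdeal I).mp ht y hy) ?_
  obtain ⟨g, r, hyg, hr⟩ := exists_gen_basicOpen hI U hy
  rw [hr y hyg, Ideal.span_singleton_le_iff_mem]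
  choose G R hG hR using fun z : U.1 => exists_gen_basicOpen hI U z.2
  obtain ⟨F, hF⟩ := U.2.isCompact.elim_finite_subcover (fun z : U.1 => (X.basicOpen (G z) : Set X))
    (fun z => (X.basicOpen (G z)).2) fun z hz => Set.mem_iUnion.mpr ⟨⟨z, hz⟩, hG ⟨z, hz⟩⟩
  have hrad : ∀ j : U.1, g * G j ∈ ((Ideal.span {R j}).colon {r}).radical := fun j => by
    rw [Ideal.radical_eq_sInf, Submodule.mem_sInf]
    rintro P ⟨hle, hP⟩
    by_contra hgP
    obtain ⟨w, hw, hiff⟩ := exists_point_of_prime' U P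
    have hu := (hiff _).mpr hgP
    rw [map_mul, IsUnit.mul_iff] at hu
    have hwg : w ∈ X.basicOpen g := (X.mem_basicOpen g w hw).mpr hu.1
    have hwj : w ∈ X.basicOpen (G j) := (X.mem_basicOpen (G j) w hw).mpr hu.2
    have hmem : X.presheaf.germ U.1 w hw r ∈ (Ideal.span {R j}).map (X.presheaf.germ U.1 w hw).hom := by
      rw [Ideal.map_span, Set.image_singleton]
      exact (hr w hwg).symm.le.trans (hR j w hwj).le (Ideal.mem_span_singleton_self _)
    obtain ⟨s, hs, hsr⟩ := exists_mul_mem_of_germ U _ r hw hmem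
    exact (hiff s).mp hs (hle (by simpa [Submodule.mem_colon_singleton] using hsr))
  choose m hm using hrad
  let M := ∑ j ∈ F, m j
  have hcI : g ^ M * r ∈ sectIdeal I U := (mem_sectIdeal I).mpr fun w hw => by
    obtain ⟨j, hj, hwj⟩ := Set.mem_iUnion₂.mp (hF hw)
    have h1 := hm j
    rw [Submodule.mem_colon_singleton, smul_eq_mul, mul_pow] at h1
    obtain ⟨c, hc⟩ := Ideal.mem_span_singleton'.mp h1
    refine germ_pow_mul_cancel hw (s := G j ^ m j) ?_ ?_
    · rw [map_pow]; exact ((X.mem_basicOpen (G j) w hw).mp hwj).pow _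
    · obtain ⟨d, hd⟩ := pow_dvd_pow g (Finset.single_le_sum (fun i _ => Nat.zero_le (m i)) hj)
      rw [hR j w hwj, show G j ^ m j * (g ^ M * r) = d * c * R j by
        rw [show g ^ M = g ^ m j * d from hd, mul_assoc d c, hc]; ring, map_mul]
      exact Ideal.mul_mem_left _ _ (Ideal.mem_span_singleton_self _)
  refine germ_pow_mul_cancel hy (s := g ^ M) ?_ (Ideal.mem_map_of_mem _ hcI)
  rw [map_pow]
  exact ((X.mem_basicOpen g y hy).mp hyg).pow _

/-- The ideal sheaf with given locally principal stalks. -/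
def ofStalks (hI : LocPrincipal I) : X.IdealSheafData :=
  { ideal := sectIdeal I
    map_ideal_basicOpen := fun U f => by
      refine le_antisymm (Ideal.map_le_iff_le_comap.mpr fun t ht => ?_) fun t ht => ?_
      · refine (mem_sectIdeal I).mpr fun z hz => ?_
        have h1 := (mem_sectIdeal I).mp ht z (X.basicOpen_le f hz)
        rwa [← TopCat.Presheaf.germ_res_apply X.presheaf (homOfLE (X.basicOpen_le f)) z hz t] at h1
      · refine mem_of_germ (X.affineBasicOpen f) _ t fun z hz => ?_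
        have h1 := (mem_sectIdeal I).mp ht z hz
        rw [← map_sectIdeal hI U (X.basicOpen_le f hz)] at h1
        refine Eq.mpr (congrArg (fun J => _ ∈ J) (Ideal.map_map
          (X.presheaf.map (homOfLE (X.basicOpen_le f)).op).hom (X.presheaf.germ (X.basicOpen f) z hz).hom)) ?_
        rw [← CommRingCat.hom_comp]
        exact (congrArg (fun φ => _ ∈ (sectIdeal I U).map (CommRingCat.Hom.hom φ))
          (TopCat.Presheaf.germ_res X.presheaf (homOfLE (X.basicOpen_le f)) z hz)).mpr h1 }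

theorem stalkIdeal_ofStalks (hI : LocPrincipal I) (z : X) : stalkIdeal (ofStalks hI) z = I z := by
  obtain ⟨U, hz, -⟩ := IdealSh.Comap.exists_affine_le z ⊤ trivial
  rw [IdealSh.stalkIdeal_eq _ U hz]
  exact map_sectIdeal hI U hz

theorem ext_of_stalks (P Q : X.IdealSheafData) (h : ∀ z, stalkIdeal P z = stalkIdeal Q z) : P = Q := by
  refine Scheme.IdealSheafData.ext (funext fun U => ?_)
  have key : ∀ (P Q : X.IdealSheafData), (∀ z, stalkIdeal P z = stalkIdeal Q z) → P.ideal U ≤ Q.ideal U := by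
    intro P Q h t ht
    refine mem_of_germ U _ t fun z hz => ?_
    rw [← IdealSh.stalkIdeal_eq Q U hz, ← h z, IdealSh.stalkIdeal_eq P U hz]
    exact Ideal.mem_map_of_mem _ ht
  exact le_antisymm (key P Q h) (key Q P fun z => (h z).symm)

end Groth.Agent.Div61
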