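import Groth.Agent.Div61.DescentAlg
import Groth.Agent.Div61.StalkFamily
import Mathlib.AlgebraicGeometry.Morphisms.Flat

/-!
# Descent of effective Cartier divisors tested at points of depth at most one
-/

set_option autoImplicit false
set_option linter.style.haveILetI false
set_option backward.isDefEq.respectTransparency.types false

universe u

open CategoryTheory CategoryTheory.Limits AlgebraicGeometry TopologicalSpace Opposite IsLocalRing

noncomputable section

namespace Groth.Agent.Div61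

open IntMult (stalkIdeal)

variable {X Y : Scheme.{u}} (f : X ⟶ Y)

/-- Pulling back germs to a point over a generisation. -/
def pull {y : Y} {x : X} (h : f x ⤳ y) : Y.presheaf.stalk y →+* X.presheaf.stalk x :=
  (Y.presheaf.stalkSpecializes h ≫ f.stalkMap x).hom

theorem pull_germ {y : Y} {x : X} (h : f x ⤳ y) {V : Y.Opens} (hy : y ∈ V) (a : Γ(Y, V)) :
    pull f h (Y.presheaf.germ V y hy a) =
      X.presheaf.germ (f ⁻¹ᵁ V) x (h.mem_open V.2 hy) (f.app V a) := by
  show f.stalkMap x (Y.presheaf.stalkSpecializes h (Y.presheaf.germ V y hy a)) = _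
  rw [TopCat.Presheaf.germ_stalkSpecializes_apply]
  exact f.germ_stalkMap_apply V x (h.mem_open V.2 hy) a

theorem pull_specializes {y : Y} {x x' : X} (h : f x ⤳ y) (hx : x' ⤳ x) (h' : f x' ⤳ y)
    (a : Y.presheaf.stalk y) : X.presheaf.stalkSpecializes hx (pull f h a) = pull f h' a := by
  obtain ⟨V, hy, s, rfl⟩ := Y.presheaf.exists_germ_eq a
  rw [pull_germ, pull_germ, TopCat.Presheaf.germ_stalkSpecializes_apply]

theorem pull_sp {y y' : Y} {x : X} (h : f x ⤳ y) (hy : y' ⤳ y) (h' : f x ⤳ y')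
    (a : Y.presheaf.stalk y) : pull f h' (Y.presheaf.stalkSpecializes hy a) = pull f h a := by
  show f.stalkMap x (Y.presheaf.stalkSpecializes h' (Y.presheaf.stalkSpecializes hy a)) = _
  rw [TopCat.Presheaf.stalkSpecializes_comp_apply]
  rfl

theorem pull_self (x : X) (a : Y.presheaf.stalk (f x)) : pull f (specializes_refl (f x)) a = f.stalkMap x a := by
  show f.stalkMap x _ = _
  rw [TopCat.Presheaf.stalkSpecializes_refl]
  rfl

theorem map_stalkIdeal_sp (𝓙 : X.IdealSheafData) {x x' : X} (h : x' ⤳ x) :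
    stalkIdeal 𝓙 x' = (stalkIdeal 𝓙 x).map (X.presheaf.stalkSpecializes h).hom := by
  obtain ⟨U, hx, -⟩ := IdealSh.Comap.exists_affine_le x ⊤ trivial
  rw [IdealSh.stalkIdeal_eq _ U hx, IdealSh.stalkIdeal_eq _ U (h.mem_open U.1.2 hx), Ideal.map_map,
    ← CommRingCat.hom_comp, TopCat.Presheaf.germ_stalkSpecializes]

theorem exists_regular_gen (𝓙 : X.IdealSheafData) (hJ : BlowUp.IsEffCartierIdeal 𝓙) (x : X) :
    ∃ b : X.presheaf.stalk x, b ∈ nonZeroDivisors (X.presheaf.stalk x) ∧ stalkIdeal 𝓙 x = Ideal.span {b} := by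
  obtain ⟨U, hx, a, ha, he⟩ := hJ x
  refine ⟨X.presheaf.germ U.1 x hx a, IdealSh.Regular.germ_mem_nonZeroDivisors U.2 x hx ha, ?_⟩
  rw [IdealSh.stalkIdeal_eq _ U hx, he, Ideal.map_span, Set.image_singleton]

theorem specializes_of_genPrime_le {z z' x : X} (h : z ⤳ x) (h' : z' ⤳ x)
    (e : CDivLib.genPrime h ≤ CDivLib.genPrime h') : z ⤳ z' := by
  obtain ⟨_, ⟨V, hV, rfl⟩, hxV, -⟩ :=
    X.isBasis_affineOpens.exists_subset_of_mem_open (Set.mem_univ x) isOpen_univ
  replace hV : IsAffineOpen V := hV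
  have h1 := CDivLib.genPrime_affine hV h hxV
  have h2 := CDivLib.genPrime_affine hV h' hxV
  have hle : hV.primeIdealOf ⟨z, h.mem_open V.2 hxV⟩ ≤ hV.primeIdealOf ⟨z', h'.mem_open V.2 hxV⟩ := by
    show (hV.primeIdealOf ⟨z, h.mem_open V.2 hxV⟩).asIdeal ≤ (hV.primeIdealOf ⟨z', h'.mem_open V.2 hxV⟩).asIdeal
    rw [← h1, ← h2]
    exact Ideal.comap_mono e
  have h3 := ((PrimeSpectrum.le_iff_specializes _ _).mp hle).map hV.fromSpec.continuous
  rwa [hV.fromSpec_primeIdealOf, hV.fromSpec_primeIdealOf] at h3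

/-- Local data at a point of the base. -/
def LocalEq (𝓙 : X.IdealSheafData) (y : Y) : Prop :=
  ∃ a : Y.presheaf.stalk y, ∀ (x : X) (h : f x ⤳ y), stalkIdeal 𝓙 x = Ideal.span {pull f h a}

/-- The test condition at points of depth at most one. -/
def DepthOneEq (𝓙 : X.IdealSheafData) : Prop :=
  ∀ y : Y, LocCoh.depth (Y.presheaf.stalk y) (Y.presheaf.stalk y) ≤ 1 → LocalEq f 𝓙 y

variable [IsLocallyNoetherian X] [IsLocallyNoetherian Y] [Flat f]

omit [IsLocallyNoetherian X] [Flat f] in
/-- Points of depth at most one as primes. -/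
theorem exists_point_depth {y : Y} (p : Ideal (Y.presheaf.stalk y)) [p.IsPrime]
    (hp : LocCoh.depth (Localization.AtPrime p) (Localization.AtPrime p) ≤ 1) :
    ∃ (y' : Y) (h : y' ⤳ y), CDivLib.genPrime h = p ∧
      LocCoh.depth (Y.presheaf.stalk y') (Y.presheaf.stalk y') ≤ 1 := by
  obtain ⟨y', h, hy'⟩ := CDivLib.exists_genPrime_eq p
  refine ⟨y', h, hy', ?_⟩
  letI := (Y.presheaf.stalkSpecializes h).hom.toAlgebra
  have hk : RingHom.ker (Cyc.specMap y y' h) = p := (CycLib.ker_specMap_eq_comap y y' h).trans hy'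
  subst hk
  haveI := CycLib.isLocalization_stalkSpecializes h
  rw [HartogsAffine.depth_congr_ringEquiv (IsLocalization.algEquiv (RingHom.ker (Cyc.specMap y y' h)).primeCompl
    (Localization.AtPrime (RingHom.ker (Cyc.specMap y y' h))) (Y.presheaf.stalk y')).toRingEquiv]
  exact hp

theorem unit_mul_of_span_eq {R : Type u} [CommRing R] {b c : R} (hb : b ∈ nonZeroDivisors R)
    (h : Ideal.span {c} = Ideal.span {b}) : c ∈ nonZeroDivisors R := by
  obtain ⟨u, hu⟩ := Ideal.mem_span_singleton'.mp (h.le (Ideal.mem_span_singleton_self c))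
  obtain ⟨v, hv⟩ := Ideal.mem_span_singleton'.mp (h.ge (Ideal.mem_span_singleton_self b))
  have h1 : v * u = 1 := by
    refine sub_eq_zero.mp (mem_nonZeroDivisors_iff_right.mp hb _ ?_)
    rw [sub_mul, one_mul, mul_assoc, hu, hv, sub_self]
  rw [← hu]
  exact mul_mem (IsUnit.mem_nonZeroDivisors (IsUnit.of_mul_eq_one v (by rw [mul_comm]; exact h1))) hb

/-- At each point upstairs the divisor comes from the base. -/
theorem exists_stalk_gen (𝓙 : X.IdealSheafData) (hJ : BlowUp.IsEffCartierIdeal 𝓙) (H : DepthOneEq f 𝓙) (x : X) :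
    ∃ c : Y.presheaf.stalk (f x), c ∈ nonZeroDivisors (Y.presheaf.stalk (f x)) ∧
      stalkIdeal 𝓙 x = Ideal.span {f.stalkMap x c} := by
  classical
  obtain ⟨b, hb, hJb⟩ := exists_regular_gen 𝓙 hJ x
  let A := Y.presheaf.stalk (f x)
  let B := X.presheaf.stalk x
  let _ : Algebra A B := (f.stalkMap x).hom.toAlgebra
  have : Module.Flat A B := Flat.stalkMap f x
  have : IsLocalHom (algebraMap A B) := inferInstanceAs (IsLocalHom (f.stalkMap x).hom)
  have : Module.FaithfullyFlat A B := Module.FaithfullyFlat.of_flat_of_isLocalHom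
  have hmem := mem_map_comap_of_depth_le_one (A := A) (B := B) hb fun p _ hp => by
    obtain ⟨y', hy', hyp, hdep⟩ := exists_point_depth p hp
    obtain ⟨a, ha⟩ := H y' hdep
    letI := (Y.presheaf.stalkSpecializes hy').hom.toAlgebra
    haveI : IsLocalization.AtPrime (Y.presheaf.stalk y') p := by
      have hk : RingHom.ker (Cyc.specMap (f x) y' hy') = p := (CycLib.ker_specMap_eq_comap (f x) y' hy').trans hyp
      subst hk
      exact CycLib.isLocalization_stalkSpecializes hy'
    obtain ⟨⟨a₀, t⟩, hat⟩ := IsLocalization.surj p.primeCompl a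
    refine ⟨a₀, fun q hq hqp => ?_⟩
    obtain ⟨x', hx', hxq⟩ := CDivLib.exists_genPrime_eq q
    have hfx : f x' ⤳ f x := hx'.map f.continuous
    have hcomap : CDivLib.genPrime hfx = q.comap (algebraMap A B) := by
      rw [← hxq]
      ext c
      show IsLocalRing.maximalIdeal _ |> fun m => Y.presheaf.stalkSpecializes hfx c ∈ m ↔
        X.presheaf.stalkSpecializes hx' (f.stalkMap x c) ∈ IsLocalRing.maximalIdeal _
      rw [← Scheme.Hom.stalkSpecializes_stalkMap_apply f x' x hx']
      exact ⟨fun h hu => h (isUnit_of_map_unit (f.stalkMap x').hom _ hu), fun h hu => h (hu.map (f.stalkMap x').hom)⟩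
    have hxy : f x' ⤳ y' := specializes_of_genPrime_le hfx hy' (by rw [hcomap, hyp]; exact hqp)
    have hJ' : Ideal.span {X.presheaf.stalkSpecializes hx' b} = Ideal.span {pull f hxy a} := by
      rw [← ha x' hxy, map_stalkIdeal_sp 𝓙 hx', hJb, Ideal.map_span, Set.image_singleton]
    have e : ∀ r : A, pull f hxy (algebraMap A (Y.presheaf.stalk y') r) =
        X.presheaf.stalkSpecializes hx' (algebraMap A B r) := fun r => by
      show pull f hxy (Y.presheaf.stalkSpecializes hy' r) = X.presheaf.stalkSpecializes hx' (f.stalkMap x r)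
      rw [pull_sp f hfx hy' hxy r, ← pull_self f x r, pull_specializes f (specializes_refl (f x)) hx' hfx r]
    have hspan : Ideal.span {X.presheaf.stalkSpecializes hx' (algebraMap A B a₀)} =
        Ideal.span {X.presheaf.stalkSpecializes hx' b} := by
      rw [hJ', ← e, ← hat, map_mul]
      exact Ideal.span_singleton_mul_right_unit ((IsLocalization.map_units (Y.presheaf.stalk y') t).map _) _
    letI := (X.presheaf.stalkSpecializes hx').hom.toAlgebra
    haveI : IsLocalization.AtPrime (X.presheaf.stalk x') q := by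
      have hk : RingHom.ker (Cyc.specMap x x' hx') = q := (CycLib.ker_specMap_eq_comap x x' hx').trans hxq
      subst hk
      exact CycLib.isLocalization_stalkSpecializes hx'
    constructor
    · refine (IsLocalization.algebraMap_mem_map_algebraMap_iff q.primeCompl (X.presheaf.stalk x') _ _).mp ?_
      rw [Ideal.map_span, Set.image_singleton]
      exact hspan.le (Ideal.mem_span_singleton_self _)
    · refine (IsLocalization.algebraMap_mem_map_algebraMap_iff q.primeCompl (X.presheaf.stalk x') _ _).mp ?_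
      rw [Ideal.map_span, Set.image_singleton]
      exact hspan.ge (Ideal.mem_span_singleton_self _)
  -- a single generator
  let I := (Ideal.span {b}).comap (algebraMap A B)
  obtain ⟨c, hcI, hcb⟩ : ∃ c ∈ I, Ideal.span {algebraMap A B c} = Ideal.span {b} := by
    by_contra hcon
    push Not at hcon
    have hle : I.map (algebraMap A B) ≤ (Ideal.span {b}) * maximalIdeal B := by
      rw [Ideal.map_le_iff_le_comap]
      intro c hc
      obtain ⟨d, hd⟩ := Ideal.mem_span_singleton'.mp (show algebraMap A B c ∈ Ideal.span {b} from hc)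
      rw [Ideal.mem_comap, ← hd, mul_comm d b]
      refine Ideal.mul_mem_mul (Ideal.mem_span_singleton_self b) ((IsLocalRing.mem_maximalIdeal d).mpr fun hu => ?_)
      exact hcon c hc (by rw [← hd]; exact Ideal.span_singleton_mul_left_unit hu b)
    obtain ⟨m, hm, hbm⟩ := Ideal.mem_span_singleton_mul.mp (hle hmem)
    have h1 : (1 - m) * b = 0 := by rw [sub_mul, one_mul, mul_comm m b, hbm, sub_self]
    have h2 : 1 - m = 0 := mem_nonZeroDivisors_iff_right.mp hb _ h1
    exact (IsLocalRing.mem_maximalIdeal m).mp hm (by rw [← sub_eq_zero.mp h2]; exact isUnit_one)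
  have hreg := unit_mul_of_span_eq hb hcb
  refine ⟨c, mem_nonZeroDivisors_iff_right.mpr fun z hz => ?_, hJb.trans hcb.symm⟩
  refine FaithfulSMul.algebraMap_injective A B ((mem_nonZeroDivisors_iff_right.mp hreg _ ?_).trans (map_zero _).symm)
  rw [← map_mul, hz, map_zero]

omit [IsLocallyNoetherian X] in
/-- The ideal downstairs at an image point is the contraction. -/
theorem comap_stalkIdeal {y : Y} {x : X} (hxy : f x = y) (𝓙 : X.IdealSheafData) {c : Y.presheaf.stalk y}
    (hc : stalkIdeal 𝓙 x = Ideal.span {pull f (hxy ▸ specializes_refl y : f x ⤳ y) c}) :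
    (stalkIdeal 𝓙 x).comap (pull f (hxy ▸ specializes_refl y : f x ⤳ y)) = Ideal.span {c} := by
  subst hxy
  rw [hc]
  let _ : Algebra (Y.presheaf.stalk (f x)) (X.presheaf.stalk x) := (f.stalkMap x).hom.toAlgebra
  have : Module.Flat (Y.presheaf.stalk (f x)) (X.presheaf.stalk x) := Flat.stalkMap f x
  have : IsLocalHom (algebraMap (Y.presheaf.stalk (f x)) (X.presheaf.stalk x)) :=
    inferInstanceAs (IsLocalHom (f.stalkMap x).hom)
  have : Module.FaithfullyFlat (Y.presheaf.stalk (f x)) (X.presheaf.stalk x) :=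
    Module.FaithfullyFlat.of_flat_of_isLocalHom
  have hp : ∀ a, pull f (specializes_refl (f x)) a =
      algebraMap (Y.presheaf.stalk (f x)) (X.presheaf.stalk x) a := pull_self f x
  have : pull f (specializes_refl (f x)) = algebraMap (Y.presheaf.stalk (f x)) (X.presheaf.stalk x) :=
    RingHom.ext hp
  rw [this, ← Set.image_singleton, ← Ideal.map_span, Ideal.comap_map_eq_self_of_faithfullyFlat]

/-- The contraction does not depend on the point in the fibre. -/
theorem gen_unique (𝓙 : X.IdealSheafData) (H : DepthOneEq f 𝓙) [Surjective f] {y : Y} {x x' : X}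
    (hx : f x = y) (hx' : f x' = y) {c c' : Y.presheaf.stalk y}
    (hc' : c' ∈ nonZeroDivisors (Y.presheaf.stalk y))
    (e : stalkIdeal 𝓙 x = Ideal.span {pull f (hx ▸ specializes_refl y : f x ⤳ y) c})
    (e' : stalkIdeal 𝓙 x' = Ideal.span {pull f (hx' ▸ specializes_refl y : f x' ⤳ y) c'}) :
    c ∈ Ideal.span {c'} := by
  classical
  by_contra hne
  let A := Y.presheaf.stalk y
  obtain ⟨p, hp, hle⟩ := exists_le_isAssociatedPrime_of_isNoetherianRing A
    (Ideal.Quotient.mk (Ideal.span {c'}) c) (fun h => hne (Ideal.Quotient.eq_zero_iff_mem.mp h))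
  obtain ⟨hpp, z, hz⟩ := isAssociatedPrime_iff.mp hp
  obtain ⟨ee, rfl⟩ := Ideal.Quotient.mk_surjective z
  have hdep := depth_le_one_of_colon (A := A) (B := A) hc' p (e := ee) fun t => by
    rw [hz, Submodule.mem_colon_singleton, Submodule.mem_bot, ← Ideal.Quotient.mk_eq_mk,
      ← Submodule.Quotient.mk_smul, smul_eq_mul, Submodule.Quotient.mk_eq_zero]
    rfl
  obtain ⟨y', hy', hyp, hdep'⟩ := exists_point_depth p hdep
  obtain ⟨a, ha⟩ := H y' hdep'
  have key : ∀ (x : X) (hxy : f x = y) (c : A),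
      stalkIdeal 𝓙 x = Ideal.span {pull f (hxy ▸ specializes_refl y : f x ⤳ y) c} →
      Ideal.span {Y.presheaf.stalkSpecializes hy' c} = Ideal.span {a} := by
    intro x hxy c e
    subst hxy
    let _ : Algebra (Y.presheaf.stalk (f x)) (X.presheaf.stalk x) := (f.stalkMap x).hom.toAlgebra
    have : Module.Flat (Y.presheaf.stalk (f x)) (X.presheaf.stalk x) := Flat.stalkMap f x
    have : IsLocalHom (algebraMap (Y.presheaf.stalk (f x)) (X.presheaf.stalk x)) :=
      inferInstanceAs (IsLocalHom (f.stalkMap x).hom)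
    have : Module.FaithfullyFlat (Y.presheaf.stalk (f x)) (X.presheaf.stalk x) :=
      Module.FaithfullyFlat.of_flat_of_isLocalHom
    obtain ⟨q, hq⟩ := PrimeSpectrum.comap_surjective_of_faithfullyFlat (B := X.presheaf.stalk x)
      (⟨p, hpp⟩ : PrimeSpectrum (Y.presheaf.stalk (f x)))
    obtain ⟨x₁, hx₁, hxq⟩ := CDivLib.exists_genPrime_eq q.asIdeal
    have hfx : f x₁ ⤳ f x := hx₁.map f.continuous
    have hcomap : CDivLib.genPrime hfx = p := by
      rw [← show q.asIdeal.comap (f.stalkMap x).hom = p from congrArg PrimeSpectrum.asIdeal hq, ← hxq]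
      ext c
      show IsLocalRing.maximalIdeal _ |> fun m => Y.presheaf.stalkSpecializes hfx c ∈ m ↔
        X.presheaf.stalkSpecializes hx₁ (f.stalkMap x c) ∈ IsLocalRing.maximalIdeal _
      rw [← Scheme.Hom.stalkSpecializes_stalkMap_apply f x₁ x hx₁]
      exact ⟨fun h hu => h (isUnit_of_map_unit (f.stalkMap x₁).hom _ hu), fun h hu => h (hu.map (f.stalkMap x₁).hom)⟩
    have hx₁y : f x₁ = y' := CDivLib.genPrime_injective hfx hy' (hcomap.trans hyp.symm)
    subst hx₁y
    have e1 : stalkIdeal 𝓙 x₁ = Ideal.span {pull f (specializes_refl (f x₁)) (Y.presheaf.stalkSpecializes hy' c)} := by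
      rw [map_stalkIdeal_sp 𝓙 hx₁, e, Ideal.map_span, Set.image_singleton, pull_sp f hfx hy']
      exact congrArg (fun t => Ideal.span {t}) (pull_specializes f _ hx₁ hfx c)
    rw [← comap_stalkIdeal f rfl 𝓙 e1]
    exact comap_stalkIdeal f rfl 𝓙 (ha x₁ (specializes_refl _))
  have hsp := (key x hx c e).trans (key x' hx' c' e').symm
  letI := (Y.presheaf.stalkSpecializes hy').hom.toAlgebra
  haveI : IsLocalization.AtPrime (Y.presheaf.stalk y') p := by
    have hk : RingHom.ker (Cyc.specMap y y' hy') = p := (CycLib.ker_specMap_eq_comap y y' hy').trans hyp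
    subst hk
    exact CycLib.isLocalization_stalkSpecializes hy'
  obtain ⟨s, hs, hsc⟩ := (IsLocalization.algebraMap_mem_map_algebraMap_iff p.primeCompl (Y.presheaf.stalk y')
    (Ideal.span {c'}) c).mp (by
      rw [Ideal.map_span, Set.image_singleton]
      exact hsp.le (Ideal.mem_span_singleton_self _))
  refine hs (hle ?_)
  rw [Submodule.mem_colon_singleton, Submodule.mem_bot, ← Ideal.Quotient.mk_eq_mk,
    ← Submodule.Quotient.mk_smul, smul_eq_mul, Submodule.Quotient.mk_eq_zero]
  exact hsc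

/-- The descended stalk ideals. -/
def downIdeal [Surjective f] (𝓙 : X.IdealSheafData) (y : Y) : Ideal (Y.presheaf.stalk y) :=
  (stalkIdeal 𝓙 (f.surjective y).choose).comap
    (pull f (show f (f.surjective y).choose ⤳ y from specializes_of_eq (f.surjective y).choose_spec))

theorem exists_downIdeal [Surjective f] (𝓙 : X.IdealSheafData) (hJ : BlowUp.IsEffCartierIdeal 𝓙)
    (H : DepthOneEq f 𝓙) (y : Y) :
    ∃ c ∈ nonZeroDivisors (Y.presheaf.stalk y), downIdeal f 𝓙 y = Ideal.span {c} ∧
      ∀ (x : X) (hx : f x = y), stalkIdeal 𝓙 x = Ideal.span {pull f (specializes_of_eq hx) c} := by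
  have ex : ∀ (x : X) (hx : f x = y), ∃ c ∈ nonZeroDivisors (Y.presheaf.stalk y),
      stalkIdeal 𝓙 x = Ideal.span {pull f (specializes_of_eq hx) c} := fun x hx => by
    subst hx
    obtain ⟨c, hc, e⟩ := exists_stalk_gen f 𝓙 hJ H x
    refine ⟨c, hc, ?_⟩
    rw [e, ← pull_self f x c]
  obtain ⟨c, hc, e⟩ := ex _ (f.surjective y).choose_spec
  refine ⟨c, hc, comap_stalkIdeal f (f.surjective y).choose_spec 𝓙 e, fun x hx => ?_⟩
  obtain ⟨c', hc', e'⟩ := ex x hx
  have h1 := gen_unique f 𝓙 H (f.surjective y).choose_spec hx hc' e e'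
  have h2 := gen_unique f 𝓙 H hx (f.surjective y).choose_spec hc e' e
  have h3 : Ideal.span {c'} = Ideal.span {c} :=
    le_antisymm ((Ideal.span_singleton_le_iff_mem _).mpr h2) ((Ideal.span_singleton_le_iff_mem _).mpr h1)
  rw [e', ← Set.image_singleton (f := pull f _), ← Ideal.map_span, h3, Ideal.map_span, Set.image_singleton]

omit [IsLocallyNoetherian Y] [Flat f] in
/-- Equations for an effective divisor hold on an open set. -/
theorem isOpen_eq_germ (𝓙 : X.IdealSheafData) (hJ : BlowUp.IsEffCartierIdeal 𝓙) {O : X.Opens} (a : Γ(X, O)) :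
    IsOpen {x : X | ∃ hx : x ∈ O, stalkIdeal 𝓙 x = Ideal.span {X.presheaf.germ O x hx a}} := by
  refine isOpen_iff_mem_nhds.mpr fun x ⟨hx, hxe⟩ => ?_
  obtain ⟨T, hxT, hTO, b, hb, he⟩ := IdealSh.EffCartier.exists_equation hJ x O hx
  let r := X.presheaf.map (homOfLE hTO).op a
  have hJT : ∀ (w : X) (hw : w ∈ T.1), stalkIdeal 𝓙 w = Ideal.span {X.presheaf.germ T.1 w hw b} := fun w hw => by
    rw [IdealSh.stalkIdeal_eq _ T hw, he, Ideal.map_span, Set.image_singleton]
  have h1 : Ideal.span {X.presheaf.germ T.1 x hxT b} = Ideal.span {X.presheaf.germ T.1 x hxT r} := by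
    rw [← hJT x hxT, hxe, TopCat.Presheaf.germ_res_apply]
  obtain ⟨s, hs, hsr⟩ := exists_mul_mem_of_germ T (Ideal.span {b}) r hxT (by
    rw [Ideal.map_span, Set.image_singleton]
    exact h1.ge (Ideal.mem_span_singleton_self _))
  obtain ⟨t, ht, htb⟩ := exists_mul_mem_of_germ T (Ideal.span {r}) b hxT (by
    rw [Ideal.map_span, Set.image_singleton]
    exact h1.le (Ideal.mem_span_singleton_self _))
  refine mem_nhds_iff.mpr ⟨X.basicOpen (s * t), fun w hw => ?_, (X.basicOpen (s * t)).2,
    (X.mem_basicOpen (s * t) x hxT).mpr (by rw [map_mul]; exact hs.mul ht)⟩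
  have hwT : w ∈ T.1 := X.basicOpen_le (s * t) hw
  have hu := (X.mem_basicOpen (s * t) w hwT).mp hw
  rw [map_mul, IsUnit.mul_iff] at hu
  refine ⟨hTO hwT, ?_⟩
  rw [hJT w hwT, ← TopCat.Presheaf.germ_res_apply X.presheaf (homOfLE hTO) w hwT a]
  refine le_antisymm ((Ideal.span_singleton_le_iff_mem _).mpr ?_) ((Ideal.span_singleton_le_iff_mem _).mpr ?_)
  · refine germ_pow_mul_cancel hwT hu.2 ?_
    rw [← Set.image_singleton, ← Ideal.map_span]
    exact Ideal.mem_map_of_mem _ htb
  · refine germ_pow_mul_cancel hwT hu.1 ?_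
    rw [← Set.image_singleton, ← Ideal.map_span]
    exact Ideal.mem_map_of_mem _ hsr

/-- Descent of an effective divisor from its behaviour at points of depth at most one. -/
theorem exists_descent [Surjective f] (hf : QuasiCompact f ∨ IsOpenMap f) (𝓙 : X.IdealSheafData)
    (hJ : BlowUp.IsEffCartierIdeal 𝓙) (H : DepthOneEq f 𝓙) :
    ∃ 𝓘 : Y.IdealSheafData, BlowUp.IsEffCartierIdeal 𝓘 ∧ 𝓘.comap f = 𝓙 := by
  classical
  choose c hc hI hcx using exists_downIdeal f 𝓙 hJ H
  have hloc : LocPrincipal (downIdeal f 𝓙) := fun y => by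
    obtain ⟨O, hyO, a, ha⟩ := Y.presheaf.exists_germ_eq (c y)
    let E : Set Y := {z | ∃ hz : z ∈ O, downIdeal f 𝓙 z = Ideal.span {Y.presheaf.germ O z hz a}}
    let W : Set X := {x : X | ∃ hx : x ∈ f ⁻¹ᵁ O,
      stalkIdeal 𝓙 x = Ideal.span {X.presheaf.germ (f ⁻¹ᵁ O) x hx (f.app O a)}}
    have hW : IsOpen W := isOpen_eq_germ 𝓙 hJ _
    have hEW : f ⁻¹' E = W := by
      ext x
      constructor
      · rintro ⟨hz, he⟩
        refine ⟨hz, ?_⟩
        rw [hcx (f x) x rfl, ← Set.image_singleton (f := pull f _), ← Ideal.map_span,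
          ← hI (f x), he, Ideal.map_span, Set.image_singleton, pull_germ]
      · rintro ⟨hz, he⟩
        refine ⟨hz, ?_⟩
        rw [hI (f x), ← comap_stalkIdeal f rfl 𝓙 (hcx (f x) x rfl)]
        refine comap_stalkIdeal f rfl 𝓙 ?_
        rw [he, pull_germ]
    have hE : IsOpen E := by
      rcases hf with hqc | hop
      · exact (Flat.isQuotientMap_of_surjective f).isOpen_preimage.mp (hEW ▸ hW)
      · rw [← Set.image_preimage_eq E f.surjective, hEW]
        exact hop _ hW
    obtain ⟨V, hyV, hV⟩ := IdealSh.Comap.exists_affine_le y ⟨E, hE⟩ ⟨hyO, by rw [hI y, ha]⟩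
    have hVO : V.1 ≤ O := fun z hz => (hV hz).1
    refine ⟨V, Y.presheaf.map (homOfLE hVO).op a, hyV, fun w hw => ?_⟩
    rw [(hV hw).2, TopCat.Presheaf.germ_res_apply]
  refine ⟨ofStalks hloc, CartDiv.Local.isEffCartier_of_stalks _ fun y _ U hyU => ⟨c y, hc y, ?_⟩,
    ext_of_stalks _ _ fun x => ?_⟩
  · rw [← IdealSh.stalkIdeal_eq _ U hyU, stalkIdeal_ofStalks, hI]
  · rw [SDivFib.stalkIdeal_comap, stalkIdeal_ofStalks, hI, hcx (f x) x rfl, Ideal.map_span,
      Set.image_singleton, pull_self]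

end Groth.Agent.Div61
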