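import Groth.Agent.RegLoc.Serre
import Groth.Agent.HartogsAffine.Basic
import Mathlib

/-!
# Descending a principal ideal along a flat map, tested at primes of depth at most one
-/

set_option autoImplicit false

universe u

open IsLocalRing TensorProduct

namespace Groth.Agent.Div61

section Flat

variable {A B : Type u} [CommRing A] [CommRing B] [Algebra A B] [Module.Flat A B]

/-- Regularity on a quotient is preserved by flat extension. -/
theorem regular_quot (I : Ideal A) {t : A} (ht : ∀ e, t * e ∈ I → e ∈ I) {z : B}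
    (hz : algebraMap A B t * z ∈ I.map (algebraMap A B)) : z ∈ I.map (algebraMap A B) := by
  let e : ((A ⧸ I) ⊗[A] B) ≃ₗ[A] B ⧸ I.map (algebraMap A B) :=
    (TensorProduct.comm A (A ⧸ I) B) ≪≫ₗ
      ((Algebra.TensorProduct.quotIdealMapEquivTensorQuot B I).symm.toLinearEquiv.restrictScalars A)
  have h1 : IsSMulRegular (A ⧸ I) t := by
    rw [isSMulRegular_iff_right_eq_zero_of_smul]
    intro x hx
    obtain ⟨x, rfl⟩ := Ideal.Quotient.mk_surjective x
    rw [← Ideal.Quotient.mk_eq_mk, ← Submodule.Quotient.mk_smul, Ideal.Quotient.mk_eq_mk,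
      Ideal.Quotient.eq_zero_iff_mem] at hx
    exact Ideal.Quotient.eq_zero_iff_mem.mpr (ht x hx)
  have h2 : IsSMulRegular ((A ⧸ I) ⊗[A] B) t := by
    have h3 := Module.Flat.rTensor_preserves_injective_linearMap (M := B) (LinearMap.lsmul A (A ⧸ I) t) h1
    have h4 : (LinearMap.lsmul A (A ⧸ I) t).rTensor B = LinearMap.lsmul A ((A ⧸ I) ⊗[A] B) t :=
      TensorProduct.ext' fun x y => by simp [TensorProduct.smul_tmul']
    rw [h4] at h3
    exact h3
  rw [← Ideal.Quotient.eq_zero_iff_mem] at hz ⊢
  refine e.symm.injective ((h2 ?_).trans (map_zero _).symm)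
  show t • e.symm (Ideal.Quotient.mk _ z) = t • (0 : (A ⧸ I) ⊗[A] B)
  rw [smul_zero, ← map_smul, Algebra.smul_def, IsScalarTower.algebraMap_apply A B (B ⧸ I.map (algebraMap A B)),
    Ideal.Quotient.algebraMap_eq, ← map_mul, hz, map_zero]

theorem regular_of_flat {t : A} (ht : ∀ e, t * e = 0 → e = 0) {z : B} (hz : algebraMap A B t * z = 0) : z = 0 := by
  have := regular_quot (B := B) (⊥ : Ideal A) (t := t) (fun e he => by
    rw [Ideal.mem_bot] at he ⊢
    exact ht e he) (z := z) (by rw [Ideal.map_bot, Ideal.mem_bot]; exact hz)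
  rwa [Ideal.map_bot, Ideal.mem_bot] at this

end Flat

/-- In depth two an element annihilated modulo a regular element cannot have the maximal ideal below it. -/
theorem mem_span_of_depth {A B : Type u} [CommRing A] [IsLocalRing A] [IsNoetherianRing A] [CommRing B]
    [Algebra A B] [Module.Flat A B] (h : 2 ≤ LocCoh.depth A A) {b w : B} (hb : b ∈ nonZeroDivisors B)
    (hw : ∀ t ∈ maximalIdeal A, algebraMap A B t * w ∈ Ideal.span {b}) : w ∈ Ideal.span {b} := by
  obtain ⟨t, ht, u, hu, htreg, hdvd⟩ := RegLoc.Serre.exists_regular_pair h (I := maximalIdeal A)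
    fun q hq hle => ((maximalIdeal.isMaximal A).eq_of_le hq.ne_top hle).symm
  obtain ⟨c, hc⟩ := Ideal.mem_span_singleton'.mp (hw t ht)
  obtain ⟨d, hd⟩ := Ideal.mem_span_singleton'.mp (hw u hu)
  have hcd : algebraMap A B u * c = algebraMap A B t * d := by
    refine sub_eq_zero.mp (mem_nonZeroDivisors_iff_right.mp hb _ ?_)
    rw [sub_mul, mul_assoc, hc, mul_assoc, hd]
    ring
  have hc' : c ∈ (Ideal.span {t}).map (algebraMap A B) := by
    refine regular_quot (Ideal.span {t}) (t := u) (fun e he => ?_) ?_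
    · exact Ideal.mem_span_singleton.mpr (hdvd e (Ideal.mem_span_singleton.mp he))
    · rw [hcd]
      exact Ideal.mul_mem_right _ _ (Ideal.mem_map_of_mem _ (Ideal.mem_span_singleton_self t))
  rw [Ideal.map_span, Set.image_singleton, Ideal.mem_span_singleton'] at hc'
  obtain ⟨c', rfl⟩ := hc'
  refine Ideal.mem_span_singleton'.mpr ⟨c', (sub_eq_zero.mp ?_).symm⟩
  refine regular_of_flat (t := t) (fun e he => htreg (by
    show t • e = t • (0 : A)
    rw [smul_eq_mul, smul_zero, he])) ?_
  rw [mul_sub, ← hc]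
  ring

/-- The associated primes of `A ⧸ (bB ∩ A)` have depth at most one. -/
theorem depth_le_one_of_colon {A B : Type u} [CommRing A] [IsNoetherianRing A] [CommRing B] [IsNoetherianRing B]
    [Algebra A B] [Module.Flat A B] {b : B} (hb : b ∈ nonZeroDivisors B) (p : Ideal A) [p.IsPrime]
    {e : A} (he : ∀ t : A, algebraMap A B (t * e) ∈ Ideal.span {b} ↔ t ∈ p) :
    LocCoh.depth (Localization.AtPrime p) (Localization.AtPrime p) ≤ 1 := by
  classical
  let C : B → Ideal B := fun r => Submodule.colon (Ideal.span {b}) {r * algebraMap A B e}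
  have hC : ∀ r z, z ∈ C r ↔ z * (r * algebraMap A B e) ∈ Ideal.span {b} := fun r z => by
    simp [C, Submodule.mem_colon_singleton]
  let S : Set (Ideal B) := {J | ∃ r, J = C r ∧ ∀ s : A, s ∉ p → algebraMap A B s ∉ J}
  have hS : S.Nonempty := ⟨C 1, 1, rfl, fun s hs hm => hs ((he s).mp (by
    have := (hC 1 _).mp hm
    rwa [one_mul, ← map_mul] at this))⟩
  obtain ⟨q, ⟨r, hqr, hdisj⟩, hmax⟩ := set_has_maximal_iff_noetherian.mpr inferInstance S hS
  change Ideal B at q
  have hq : Ideal.IsPrime q := by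
    refine ⟨fun h => hdisj 1 (fun h1 => Ideal.IsPrime.ne_top ‹_› ((Ideal.eq_top_iff_one p).mpr h1))
      (by rw [h]; trivial), fun {x y} hxy => or_iff_not_imp_left.mpr fun hx => ?_⟩
    by_contra hy
    have hxy' := (hC r _).mp (hqr ▸ hxy)
    have hle : q ≤ C (r * x) := fun z hz => by
      have h1 := (hC r _).mp (hqr ▸ hz)
      rw [hC, show z * (r * x * algebraMap A B e) = x * (z * (r * algebraMap A B e)) by ring]
      exact Ideal.mul_mem_left _ _ h1
    have hy' : y ∈ C (r * x) := by
      rw [hC, show y * (r * x * algebraMap A B e) = x * y * (r * algebraMap A B e) by ring]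
      exact hxy'
    obtain ⟨s, hs, hsm⟩ : ∃ s : A, s ∉ p ∧ algebraMap A B s ∈ C (r * x) := by
      by_contra hcon
      push Not at hcon
      exact hmax _ ⟨r * x, rfl, hcon⟩ (lt_of_le_of_ne hle fun h => hy (h ▸ hy'))
    have hle' : q ≤ C (r * algebraMap A B s) := fun z hz => by
      have h1 := (hC r _).mp (hqr ▸ hz)
      rw [hC, show z * (r * algebraMap A B s * algebraMap A B e) =
        algebraMap A B s * (z * (r * algebraMap A B e)) by ring]
      exact Ideal.mul_mem_left _ _ h1
    have hx' : x ∈ C (r * algebraMap A B s) := by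
      have h1 := (hC _ _).mp hsm
      rw [hC, show x * (r * algebraMap A B s * algebraMap A B e) =
        algebraMap A B s * (r * x * algebraMap A B e) by ring]
      exact h1
    refine hmax _ ⟨r * algebraMap A B s, rfl, fun s' hs' hm => ?_⟩ (lt_of_le_of_ne hle' fun h => hx (h ▸ hx'))
    have h1 := (hC _ _).mp hm
    refine hdisj (s' * s) (fun h2 => (Ideal.IsPrime.mem_or_mem ‹_› h2).elim hs' hs) (hqr ▸ (hC r _).mpr ?_)
    rw [map_mul, show algebraMap A B s' * algebraMap A B s * (r * algebraMap A B e) =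
      algebraMap A B s' * (r * algebraMap A B s * algebraMap A B e) by ring]
    exact h1
  have hqp : p = q.comap (algebraMap A B) := by
    refine le_antisymm (fun t ht => ?_) fun t ht => by_contra fun h => hdisj t h ht
    rw [Ideal.mem_comap, hqr, hC, show algebraMap A B t * (r * algebraMap A B e) = r * algebraMap A B (t * e) by
      rw [map_mul]; ring]
    exact Ideal.mul_mem_left _ _ ((he t).mpr ht)
  by_contra hdep
  have h2 : 2 ≤ LocCoh.depth (Localization.AtPrime p) (Localization.AtPrime p) := Order.add_one_le_of_lt (not_le.mp hdep)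
  let A' := Localization.AtPrime p
  let B' := Localization.AtPrime q
  let φ : A' →+* B' := Localization.localRingHom p q (algebraMap A B) hqp
  let _ : Algebra A' B' := φ.toAlgebra
  have : Module.Flat A' B' := RingHom.Flat.localRingHom (RingHom.flat_algebraMap_iff.mpr inferInstance) ..
  have hb' : algebraMap B B' b ∈ nonZeroDivisors B' :=
    IsLocalization.map_nonZeroDivisors_le q.primeCompl B' ⟨b, hb, rfl⟩
  have hw : algebraMap B B' (r * algebraMap A B e) ∈ Ideal.span {algebraMap B B' b} := by
    refine mem_span_of_depth h2 hb' fun t ht => ?_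
    have hle : maximalIdeal A' ≤ ((Ideal.span {algebraMap B B' b}).colon {algebraMap B B' (r * algebraMap A B e)} :
        Ideal B').comap φ := by
      rw [← Localization.AtPrime.map_eq_maximalIdeal, Ideal.map_le_iff_le_comap]
      intro a ha
      rw [Ideal.mem_comap, Ideal.mem_comap, Localization.localRingHom_to_map, Submodule.mem_colon_singleton,
        smul_eq_mul, ← map_mul]
      have h1 : algebraMap A B a ∈ q := by rw [hqp] at ha; exact ha
      rw [hqr, hC] at h1
      obtain ⟨c, hc⟩ := Ideal.mem_span_singleton'.mp h1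
      exact Ideal.mem_span_singleton'.mpr ⟨algebraMap B B' c, by rw [← map_mul, hc]⟩
    have h1 := hle ht
    rw [Ideal.mem_comap, Submodule.mem_colon_singleton, smul_eq_mul] at h1
    exact h1
  rw [← Set.image_singleton, ← Ideal.map_span, IsLocalization.algebraMap_mem_map_algebraMap_iff q.primeCompl B'] at hw
  obtain ⟨s, hs, hsw⟩ := hw
  exact hs (hqr ▸ (hC r s).mpr hsw)

/-- A principal ideal generated locally over the primes of depth at most one by elements of the base is
generated by its contraction. -/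
theorem mem_map_comap_of_depth_le_one {A B : Type u} [CommRing A] [IsNoetherianRing A] [CommRing B]
    [IsNoetherianRing B] [Algebra A B] [Module.Flat A B] {b : B} (hb : b ∈ nonZeroDivisors B)
    (H : ∀ (p : Ideal A) [p.IsPrime], LocCoh.depth (Localization.AtPrime p) (Localization.AtPrime p) ≤ 1 →
      ∃ a₀ : A, ∀ q : Ideal B, q.IsPrime → q.comap (algebraMap A B) ≤ p →
        (∃ s ∉ q, s * algebraMap A B a₀ ∈ Ideal.span {b}) ∧
          ∃ s ∉ q, s * b ∈ Ideal.span {algebraMap A B a₀}) :
    b ∈ ((Ideal.span {b}).comap (algebraMap A B)).map (algebraMap A B) := by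
  classical
  let φ := algebraMap A B
  let I := (Ideal.span {b}).comap φ
  let T : Ideal A := ((I.map φ).colon {b}).comap φ
  have hT : ∀ s, s ∈ T ↔ φ s * b ∈ I.map φ := fun s => by
    simp [T, φ, Ideal.mem_comap, Submodule.mem_colon_singleton]
  -- at an associated prime some multiplier escapes
  have key : ∀ p ∈ associatedPrimes A (A ⧸ I), ¬ T ≤ p := by
    intro p hp hTp
    obtain ⟨hpp, x, hx⟩ := isAssociatedPrime_iff.mp hp
    obtain ⟨e, rfl⟩ := Ideal.Quotient.mk_surjective x
    have he : ∀ t : A, φ (t * e) ∈ Ideal.span {b} ↔ t ∈ p := fun t => by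
      rw [hx, Submodule.mem_colon_singleton, Submodule.mem_bot, ← Ideal.Quotient.mk_eq_mk,
        ← Submodule.Quotient.mk_smul, smul_eq_mul, Submodule.Quotient.mk_eq_zero]
      rfl
    obtain ⟨a₀, ha₀⟩ := H p (depth_le_one_of_colon hb p he)
    let C₁ : Ideal B := (Ideal.span {b}).colon {φ a₀}
    obtain ⟨t, htp, ht⟩ : ∃ t ∉ p, φ t * φ a₀ ∈ Ideal.span {b} := by
      by_contra hcon
      push Not at hcon
      have hd : Disjoint (C₁ : Set B) (Submonoid.map φ p.primeCompl : Set B) := by
        rw [Set.disjoint_left]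
        rintro _ hm ⟨t, ht, rfl⟩
        exact hcon t ht (by simpa [C₁, Submodule.mem_colon_singleton] using hm)
      obtain ⟨q, hq, hC₁q, hqd⟩ := Ideal.exists_le_prime_disjoint C₁ _ hd
      obtain ⟨s, hs, hsm⟩ := (ha₀ q hq (fun t ht => by_contra fun h =>
        Set.disjoint_left.mp hqd ht ⟨t, h, rfl⟩)).1
      exact hs (hC₁q (show s ∈ C₁ by simpa [C₁, Submodule.mem_colon_singleton] using hsm))
    have hI : t * a₀ ∈ I := by rw [Ideal.mem_comap, map_mul]; exact ht
    let C₂ : Ideal B := (I.map φ).colon {b}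
    have hd : Disjoint (C₂ : Set B) (Submonoid.map φ p.primeCompl : Set B) := by
      rw [Set.disjoint_left]
      rintro _ hm ⟨s, hs, rfl⟩
      exact hs (hTp ((hT s).mpr (by simpa [C₂, Submodule.mem_colon_singleton] using hm)))
    obtain ⟨q, hq, hC₂q, hqd⟩ := Ideal.exists_le_prime_disjoint C₂ _ hd
    obtain ⟨s, hs, hsm⟩ := (ha₀ q hq (fun t ht => by_contra fun h =>
      Set.disjoint_left.mp hqd ht ⟨t, h, rfl⟩)).2
    obtain ⟨c, hc⟩ := Ideal.mem_span_singleton'.mp hsm
    have h1 : φ t * s ∈ C₂ := by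
      rw [Submodule.mem_colon_singleton, smul_eq_mul, mul_assoc, ← hc,
        show φ t * (c * φ a₀) = c * φ (t * a₀) by rw [map_mul]; ring]
      exact Ideal.mul_mem_left _ _ (Ideal.mem_map_of_mem _ hI)
    exact (hq.mem_or_mem (hC₂q h1)).elim (fun h => Set.disjoint_left.mp hqd h ⟨t, htp, rfl⟩) hs
  obtain ⟨t, htT, ht⟩ : ∃ t ∈ T, ∀ p ∈ associatedPrimes A (A ⧸ I), t ∉ p := by
    by_contra hcon
    push Not at hcon
    obtain ⟨p, hp, hle⟩ := (Ideal.subset_union_prime_finite (associatedPrimes.finite A (A ⧸ I)) (f := id) ⊥ ⊥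
      fun p hp _ _ => hp.isPrime).mp (fun a ha => by simpa using hcon a ha)
    exact key p hp hle
  refine regular_quot I (t := t) (fun e he => ?_) ((hT t).mp htT)
  by_contra hne
  obtain ⟨p, hp, hle⟩ := exists_le_isAssociatedPrime_of_isNoetherianRing A (Ideal.Quotient.mk I e)
    (fun h => hne (Ideal.Quotient.eq_zero_iff_mem.mp h))
  refine ht p hp (hle ?_)
  rw [Submodule.mem_colon_singleton, Submodule.mem_bot, ← Ideal.Quotient.mk_eq_mk,
    ← Submodule.Quotient.mk_smul, smul_eq_mul, Submodule.Quotient.mk_eq_zero]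
  exact he

end Groth.Agent.Div61
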