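import Groth.Agent.Div61.UFD
import Groth.Agent.S0234

/-!
# Globally principal divisors
-/

set_option autoImplicit false
set_option backward.isDefEq.respectTransparency.types false
set_option linter.style.haveILetI false

universe u

open CategoryTheory AlgebraicGeometry TopologicalSpace Opposite

noncomputable section

namespace Groth.Agent.Div61

open Groth.Agent.Ref1 Groth.Agent.HomShQC

variable {X : Scheme.{u}} [IsIntegral X]

/-- A rational function regular at every point is a global section. -/
theorem exists_global_of_mem_range (a : X.presheaf.stalk (genericPoint X))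
    (h : ∀ x : X, a ∈ Set.range (toK x)) :
    ∃ g : Γ(X, ⊤), ∀ x : X, toK x (X.presheaf.germ ⊤ x trivial g) = a := by
  have hloc : ∀ x : X, ∃ (W : X.Opens) (_ : x ∈ W) (r : Γ(X, W)), ∀ (z : X) (hz : z ∈ W),
      toK z (X.presheaf.germ W z hz r) = a := fun x => by
    obtain ⟨c, hc⟩ := h x
    obtain ⟨W, hxW, r, rfl⟩ := X.presheaf.exists_germ_eq c
    refine ⟨W, hxW, r, fun z hz => ?_⟩
    rw [← hc]
    exact (spR_germ (hsp z) hz r).trans (spR_germ (hsp x) hxW r).symm
  choose W hW r hr using hloc
  have hcomp : TopCat.Presheaf.IsCompatible X.sheaf.obj W r := fun i j => by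
    refine TopCat.Presheaf.section_ext X.sheaf _ _ _ fun z hz => ?_
    refine toK_injective z ?_
    refine (congrArg (toK z) (TopCat.Presheaf.germ_res_apply _ _ _ _ _)).trans ((hr i z hz.1).trans ?_)
    exact ((congrArg (toK z) (TopCat.Presheaf.germ_res_apply _ _ _ _ _)).trans (hr j z hz.2)).symm
  obtain ⟨g, hg, -⟩ := X.sheaf.existsUnique_gluing' W ⊤ (fun i => homOfLE le_top)
    (fun z _ => Opens.mem_iSup.mpr ⟨z, hW z⟩) r hcomp
  refine ⟨g, fun x => ?_⟩
  have h1 := congrArg (X.presheaf.germ (W x) x (hW x)) (hg x)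
  rw [← hr x x (hW x), ← h1]
  exact congrArg (toK x) (TopCat.Presheaf.germ_res_apply _ _ _ _ _).symm

variable [IsLocallyNoetherian X]

/-- Orders of integral powers. -/
theorem ord_zpow {a : X.functionField} (ha : a ≠ 0) {y : X} (hy : Order.coheight y = 1) (n : ℤ) :
    Scheme.ord (a ^ n) y = n * Scheme.ord a y := by
  have h1 : Scheme.ord (1 : X.functionField) y = 0 := by
    have := ord_toK_of_isUnit hy (isUnit_one : IsUnit (1 : X.presheaf.stalk y))
    rwa [map_one] at this
  induction n using Int.induction_on with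
  | zero => rw [zpow_zero, h1, zero_mul]
  | succ k ih =>
    rw [zpow_add_one₀ ha]
    have h2 := Scheme.ord_mul (x := y) (f := a ^ (k : ℤ)) (g := a) (zpow_ne_zero _ ha) ha
    rw [h2, ih]
    ring
  | pred k ih =>
    rw [zpow_sub_one₀ ha]
    have h2 := Scheme.ord_mul (x := y) (f := a ^ (-(k : ℤ))) (g := a⁻¹) (zpow_ne_zero _ ha) (inv_ne_zero ha)
    rw [h2, ih, ord_inv' ha]
    ring

variable (hX : Pi1.IsNormalScheme X)

include hX in
/-- A prime divisor cut out by a rational function is cut out by a global function. -/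
theorem exists_equation_of_principal {ζ : X} (hζ : Order.coheight ζ = 1) {f : X.functionField} (hf : f ≠ 0)
    (h1 : Scheme.ord f ζ = 1) (h0 : ∀ x : X, x ≠ ζ → Order.coheight x = 1 → Scheme.ord f x = 0) :
    ∃ g : Γ(X, ⊤), (∀ (x : X) (h : ζ ⤳ x),
        (IsLocalRing.maximalIdeal (X.presheaf.stalk ζ)).comap (X.presheaf.stalkSpecializes h).hom =
          Ideal.span {X.presheaf.germ ⊤ x trivial g}) ∧
      ∀ x : X, ¬ ζ ⤳ x → IsUnit (X.presheaf.germ ⊤ x trivial g) := by
  classical
  have hnn : ∀ y : X, Order.coheight y = 1 → 0 ≤ Scheme.ord f y := fun y hy => by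
    by_cases he : y = ζ
    · rw [he, h1]; exact zero_le_one
    · rw [h0 y he hy]
  obtain ⟨g, hg⟩ := exists_global_of_mem_range (X := X) f fun x =>
    mem_range_of_ord_nonneg hX x hf fun y hy _ => hnn y hy
  refine ⟨g, fun x h => ?_, fun x hx => ?_⟩
  · obtain ⟨_, hD⟩ := VarDim.isDiscreteValuationRing_stalk_of_coheight_eq_one hX ζ hζ
    set c := X.presheaf.germ ⊤ x trivial g with hc
    have hc0 : c ≠ 0 := fun hz => hf (by rw [← hg x, ← hc, hz, map_zero])
    have hmem : ∀ a : X.presheaf.stalk x, a ≠ 0 →
        (a ∈ CDivLib.genPrime h ↔ Scheme.ord (toK x a) ζ ≠ 0) := fun a ha => by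
      have e : toK x a = toK ζ (spR h a) := (spR_spR (hsp ζ) h a).symm
      have ha' : spR h a ≠ 0 := fun h0 => toK_ne_zero ha (by rw [e, h0, map_zero])
      rw [e]
      show spR h a ∈ nonunits _ ↔ _
      constructor
      · intro hu h0
        obtain ⟨b, hb, hbe⟩ := exists_unit_of_ord_eq_zero hζ (show (toK ζ (spR h a) : X.functionField) ≠ 0 from
          toK_ne_zero ha') h0
        exact hu (toK_injective ζ hbe ▸ hb)
      · intro h0 hu
        exact h0 (ord_toK_of_isUnit hζ hu)
    show CDivLib.genPrime h = _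
    refine le_antisymm (fun a ha => ?_) ((Ideal.span_singleton_le_iff_mem _).mpr ?_)
    · by_cases ha0 : a = 0
      · rw [ha0]; exact zero_mem _
      let q : X.functionField := (toK x a : X.functionField) / f
      have hq : q ≠ 0 := div_ne_zero (toK_ne_zero ha0) hf
      obtain ⟨b, hb⟩ := mem_range_of_ord_nonneg hX x (a := q) hq fun z hz hzx => by
        have e : toK x a = toK z (spR hzx a) := (spR_spR (hsp z) hzx a).symm
        have h2 : Scheme.ord (toK x a) z = Scheme.ord q z + Scheme.ord f z := by
          rw [← ord_mul' (y := z) (a := q) (b := f) hq hf]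
          exact congrArg (fun t => Scheme.ord t z) (div_mul_cancel₀ (toK x a : X.functionField) hf).symm
        have h3 : (0 : ℤ) ≤ Scheme.ord (toK x a) z := by
          rw [e, ord_toK hz fun h0 => toK_ne_zero ha0 (by rw [e, h0, map_zero])]
          exact Int.natCast_nonneg _
        by_cases he : z = ζ
        · subst he
          have := (hmem a ha0).mp ha
          rw [h1] at h2
          omega
        · rw [h0 z he hz] at h2
          omega
      refine Ideal.mem_span_singleton.mpr ⟨b, toK_injective x ?_⟩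
      rw [map_mul, hc, hg x, hb]
      exact (mul_div_cancel₀ (toK x a : X.functionField) hf).symm
    · rw [hmem c hc0, hc, hg x, h1]
      exact one_ne_zero
  · obtain ⟨b, hb⟩ := mem_range_of_ord_nonneg hX x (a := f⁻¹) (inv_ne_zero hf) fun y hy hyx => by
      rw [ord_inv' hf, h0 y (fun he => hx (he ▸ hyx)) hy, neg_zero]
    refine IsUnit.of_mul_eq_one b (toK_injective x ?_)
    rw [map_mul, hg x, hb, map_one]
    exact mul_inv_cancel₀ hf

end Groth.Agent.Div61
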