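import Groth.Agent.Ref1.Cycle
import Groth.Agent.Ref1.Class
import Groth.Agent.Ref1.Extend
import Groth.Agent.ExtPowSt.Modification
import Groth.Agent.LFDesc.Invertible
import Groth.Agent.ParaFLib.Factorial
import Groth.Agent.CDivLib.Generisation
import Groth.Agent.S2831

/-!
# Locally principal divisors on normal integral schemes
-/

set_option autoImplicit false
set_option backward.isDefEq.respectTransparency.types false
set_option linter.style.haveILetI false

universe u

open CategoryTheory CategoryTheory.Limits AlgebraicGeometry TopologicalSpace Opposite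
open Groth.Agent.PullStalk.Sky Groth.Agent.HomShQC
open scoped Topology

noncomputable section

namespace Groth.Agent.Div61

open Groth.Agent.Ref1 LFFrame

variable {X : Scheme.{u}} [IsIntegral X]

/-- The germs of a frame of rank one generate. -/
theorem isGenAt_of_frame {F : X.Modules} {V : X.Opens} {e : Fin 1 → Γ(F, V)} (he : IsFrame F V e)
    {y : X} (hy : y ∈ V) : IsGenAt F y (germM F V y hy (e 0)) := by
  have hη : genericPoint X ∈ V := (hsp y).mem_open V.2 hy
  have hb := he.stalkComb_bijective y hy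
  have hbη := he.stalkComb_bijective (genericPoint X) hη
  refine ⟨eq_top_iff.mpr fun v _ => ?_, fun h => ?_⟩
  · obtain ⟨a, rfl⟩ := hb.2 v
    refine Submodule.mem_span_singleton.mpr ⟨a 0, ?_⟩
    simp [stalkComb, Fintype.linearCombination_apply]
  · rw [toη, sp_germ] at h
    have h1 := hbη.1 (a₁ := fun _ => (1 : X.presheaf.stalk (genericPoint X))) (a₂ := 0) (by
      rw [map_zero]
      simpa [stalkComb, Fintype.linearCombination_apply] using h)
    exact one_ne_zero (congrFun h1 0)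

variable [IsLocallyNoetherian X]

/-- The divisor of `s` is principal at `x`. -/
def PrincipalAt (F : X.Modules) (s : F.presheaf.stalk (genericPoint X)) (x : X) : Prop :=
  ∃ f : X.presheaf.stalk (genericPoint X), f ≠ 0 ∧
    ∀ y : X, Order.coheight y = 1 → y ⤳ x → ordS F y s = Scheme.ord f y

theorem PrincipalAt.gen {F : X.Modules} {s : F.presheaf.stalk (genericPoint X)} {x z : X}
    (h : PrincipalAt F s x) (hz : z ⤳ x) : PrincipalAt F s z := by
  obtain ⟨f, hf, h⟩ := h
  exact ⟨f, hf, fun y hy hyz => h y hy (hyz.trans hz)⟩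

/-- Rational sections of invertible modules have locally principal divisors. -/
theorem principalAt_of_isInvertible {F : X.Modules} (hF : PicF.IsInvertible F)
    {s : F.presheaf.stalk (genericPoint X)} (hs : s ≠ 0) (x : X) : PrincipalAt F s x := by
  have hrk := rankOne_of_isRef1 (ExtPowSt.isRef1_of_isInvertible hF)
  obtain ⟨V, e, hxV, he⟩ := LFDesc.exists_frame_one hF x
  have hη : genericPoint X ∈ V := (hsp x).mem_open V.2 hxV
  obtain ⟨φ, hsφ⟩ := hrk.exists_smul (isGenAt_of_frame he hη).2 s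
  have hφ : φ ≠ 0 := fun h => hs (by rw [hsφ, h, zero_smul])
  refine ⟨φ, hφ, fun y hy hyx => ?_⟩
  have hyV : y ∈ V := hyx.mem_open V.2 hxV
  rw [← ordS_eq hrk hy (isGenAt_of_frame he hyV) hφ, hsφ]
  refine congrArg (fun t => ordS F y (φ • t)) ?_
  exact (sp_germ F _ hη _).trans (sp_germ F (hsp y) hyV (e 0)).symm

variable (hX : Pi1.IsNormalScheme X)

include hX in
/-- Points of codimension at most one. -/
theorem principalAt_of_coheight_le_one {F : X.Modules} (hF : RefHull.IsRef1 F)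
    {s : F.presheaf.stalk (genericPoint X)} (hs : s ≠ 0) {x : X} (hx : Order.coheight x ≤ 1) :
    PrincipalAt F s x := by
  have key : ∀ y : X, Order.coheight y = 1 → y ⤳ x → y = x := fun y hy hyx => by
    by_contra hne
    have hlt : x < y := lt_of_le_not_ge hyx fun h => hne (Specializes.antisymm hyx h).eq
    have h1 := Order.coheight_add_one_le hlt
    rw [hy] at h1
    exact absurd (h1.trans hx) (by norm_num)
  by_cases h1 : Order.coheight x = 1
  · obtain ⟨t, φ, -, hφ, -, e⟩ := exists_coord hX hF h1 hs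
    exact ⟨φ, hφ, fun y hy hyx => by rw [key y hy hyx]; exact e⟩
  · exact ⟨1, one_ne_zero, fun y hy hyx => absurd (key y hy hyx ▸ hy) h1⟩

include hX in
/-- The stalk at a point where the divisor is principal is free. -/
theorem exists_isGenAt_of_principal {F : X.Modules} (hF : RefHull.IsRef1 F)
    {s : F.presheaf.stalk (genericPoint X)} (hs : s ≠ 0) {x : X} (h : PrincipalAt F s x) :
    ∃ t, IsGenAt F x t := by
  obtain ⟨f, hf, hfy⟩ := h
  have hrk := rankOne_of_isRef1 hF
  have hu : IsUnit f := isUnit_of_ne_zero hf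
  have hu0 : (↑hu.unit⁻¹ : X.presheaf.stalk (genericPoint X)) ≠ 0 := (hu.unit⁻¹).isUnit.ne_zero
  let w := (↑hu.unit⁻¹ : X.presheaf.stalk (genericPoint X)) • s
  have hw : w ≠ 0 := fun h0 => hs ((hrk.eq_zero_or _ _ h0).resolve_left hu0)
  have hloc : ∀ y : X, y ⤳ x → ringKrullDim (X.presheaf.stalk y) = 1 →
      ∃ e : F.presheaf.stalk y, IsGenAt F y e ∧ toη F y e = w := fun y hyx hy => by
    have hy' := coheight_eq_one hy
    obtain ⟨t, φ, ht, hφ, hwφ, e⟩ := exists_coord hX hF hy' hw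
    obtain ⟨_, hD⟩ := VarDim.isDiscreteValuationRing_stalk_of_coheight_eq_one hX y hy'
    have h1 : Scheme.ord ((f * ↑hu.unit⁻¹ : X.presheaf.stalk (genericPoint X)) : X.functionField) y = 0 := by
      rw [IsUnit.mul_val_inv, ← map_one (toK y)]
      exact ord_toK_of_isUnit hy' isUnit_one
    rw [ord_mul' hf hu0, ← hfy y hy' hyx] at h1
    have h2 : ordS F y w = ordS F y s + Scheme.ord (↑hu.unit⁻¹ : X.presheaf.stalk (genericPoint X)) y :=
      ordS_smul hX hF hy' hs hu0
    obtain ⟨c, hc, hcφ⟩ := exists_unit_of_ord_eq_zero hy' (show (φ : X.functionField) ≠ 0 from hφ) (by omega)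
    refine ⟨c • t, ⟨eq_top_iff.mpr fun v _ => ?_, ?_⟩, ?_⟩
    · obtain ⟨a, rfl⟩ := ht.exists_eq v
      exact Submodule.mem_span_singleton.mpr ⟨a * ↑hc.unit⁻¹, by rw [smul_smul, mul_assoc, IsUnit.val_inv_mul, mul_one]⟩
    · rw [toη, sp_smul]
      show toK y c • toη F y t ≠ 0
      rw [hcφ, ← hwφ]
      exact hw
    · rw [hwφ, toη, sp_smul]
      exact congrArg (· • toη F y t) hcφ
  obtain ⟨t₀, ht₀⟩ := mem_range_of_codim_one hX F hF.1 hF.2.1 x w fun y hyx hy => by
    obtain ⟨e, -, he⟩ := hloc y hyx hy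
    exact ⟨e, he⟩
  refine ⟨t₀, eq_top_iff.mpr fun v _ => ?_, by rw [ht₀]; exact hw⟩
  obtain ⟨a, ha⟩ := hrk.exists_smul hw (toη F x v)
  obtain ⟨a', ha'⟩ := mem_range_toK_of_codim_one hX x a fun y hyx hy => by
    obtain ⟨e, he, hew⟩ := hloc y hyx hy
    obtain ⟨b, hb⟩ := he.exists_eq (sp F hyx v)
    refine ⟨b, ?_⟩
    have h1 : toK y b • w = a • w := by
      rw [← ha, ← hew]
      show spR (hsp y) b • sp F (hsp y) e = toη F x v
      rw [← sp_smul, hb, sp_sp]
    have h2 : (toK y b - a) • w = 0 := by rw [sub_smul, h1, sub_self]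
    exact sub_eq_zero.mp ((hrk.eq_zero_or _ _ h2).resolve_right hw)
  refine Submodule.mem_span_singleton.mpr ⟨a', toη_injective_of_isReflexive F hF.1 hF.2.1 x ?_⟩
  rw [toη, sp_smul]
  show toK x a' • toη F x t₀ = toη F x v
  rw [ha', ht₀, ha]

include hX in
theorem nonempty_basis_of_principal {F : X.Modules} (hF : RefHull.IsRef1 F)
    {s : F.presheaf.stalk (genericPoint X)} (hs : s ≠ 0) {x : X} (h : PrincipalAt F s x) :
    Nonempty (Module.Basis (Fin 1) (X.presheaf.stalk x) (F.presheaf.stalk x)) := by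
  have hrk := rankOne_of_isRef1 hF
  obtain ⟨t, ht⟩ := exists_isGenAt_of_principal hX hF hs h
  let e := LinearEquiv.ofBijective
    (LinearMap.toSpanSingleton (X.presheaf.stalk x) (F.presheaf.stalk x) t) ⟨by
      rw [injective_iff_map_eq_zero]
      intro a ha
      rw [LinearMap.toSpanSingleton_apply] at ha
      have h0 : toK x a • toη F x t = 0 := by rw [← sp_smul, ha, map_zero]
      exact toK_injective x (((hrk.eq_zero_or _ _ h0).resolve_right ht.2).trans (map_zero _).symm),
      fun v => ht.exists_eq v⟩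
  exact ⟨Module.Basis.ofEquivFun (e.symm.trans (LinearEquiv.funUnique (Fin 1) _ _).symm)⟩

omit [IsIntegral X] [IsLocallyNoetherian X] in
/-- Local triviality where the stalks are free. -/
theorem exists_triv_of_stalks (M : X.Modules) (hM : Coh.IsCoh M) (O : X.Opens)
    (hfree : ∀ y ∈ O, Nonempty (Module.Basis (Fin 1) (X.presheaf.stalk y) (M.presheaf.stalk y)))
    {x : X} (hxO : x ∈ O) :
    ∃ D : X.Opens, x ∈ D ∧ Nonempty (M.restrict D.ι ≅ Coh.structureModule (D : Scheme.{u})) := by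
  haveI := hM.1
  haveI := hM.2
  obtain ⟨U, hU, hx, hUO⟩ := exists_isAffineOpen_mem_and_subset (X := X) hxO
  haveI : Module.Finite Γ(X, U) Γ(M, U) := QCoh.finite_sections_of_isFiniteType M hU
  have hrank : Props.QRank.fibreRank M x = 1 := by
    obtain ⟨b⟩ := hfree x hxO
    haveI := Module.Free.of_basis b
    rw [Props.QRank.fibreRank_eq_of_free, Module.finrank_eq_card_basis b, Fintype.card_fin]
  obtain ⟨g, hxg, -, m, hm⟩ := Props.QRank.exists_generators M hU hx (O := ⊤) trivial
  obtain ⟨m₁, hm₁⟩ : ∃ m₁ : Fin 1 → Γ(M, X.basicOpen g),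
      Submodule.span Γ(X, X.basicOpen g) (Set.range m₁) = ⊤ := by
    revert m
    rw [hrank]
    exact fun m hm => ⟨m, hm⟩
  refine ⟨X.basicOpen g, hxg, LFFrame.IsFrame.nonempty_restrict_iso (e := m₁) ?_⟩
  refine LFFrame.isFrame_of_stalkComb_bijective fun y hy => ?_
  have hsurj : Function.Surjective (LFFrame.stalkComb M m₁ y hy) := by
    rw [← LinearMap.range_eq_top, LFFrame.stalkComb, Fintype.range_linearCombination]
    exact Props.QRank.span_germ_eq_top M (hU.basicOpen g) hm₁ hy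
  obtain ⟨b⟩ := hfree y (hUO (X.basicOpen_le g hy))
  refine ⟨?_, hsurj⟩
  have h' := OrzechProperty.injective_of_surjective_endomorphism
    (b.equivFun.toLinearMap ∘ₗ LFFrame.stalkComb M m₁ y hy) (b.equivFun.surjective.comp hsurj)
  exact fun a c hac => h' (congrArg b.equivFun hac)

include hX in
/-- The locus where the divisor is principal is open. -/
theorem isOpen_principal {F : X.Modules} (hF : RefHull.IsRef1 F)
    {s : F.presheaf.stalk (genericPoint X)} (hs : s ≠ 0) : IsOpen {x | PrincipalAt F s x} := by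
  refine isOpen_iff_mem_nhds.mpr fun x hx => ?_
  obtain ⟨f, hf, hfy⟩ := hx
  have hO := isRef1_structureModule (X := X)
  let t := f • unitStalk (genericPoint X) (1 : X.presheaf.stalk (genericPoint X))
  have h1 : unitStalk (genericPoint X) (1 : X.presheaf.stalk (genericPoint X)) ≠ 0 :=
    fun h => one_ne_zero ((unitStalk (genericPoint X)).injective (h.trans (map_zero _).symm))
  have ht : t ≠ 0 := fun h => h1 (((rankOne_of_isRef1 hO).eq_zero_or _ _ h).resolve_left hf)
  have hord : ∀ y : X, Order.coheight y = 1 → ordS (Coh.structureModule X) y t = Scheme.ord f y := fun y hy => by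
    rw [ordS_smul hX hO hy h1 hf, ordS_one hy, zero_add]
  obtain ⟨U₁, hU₁, hf₁⟩ := finite_ordS_ne_zero F hF.2.2 hs x
  obtain ⟨U₂, hU₂, hf₂⟩ := finite_ordS_ne_zero (Coh.structureModule X) hO.2.2 ht x
  obtain ⟨W, hW, hWo, hxW⟩ := mem_nhds_iff.mp (Filter.inter_mem hU₁ hU₂)
  let B : Set X := {y | y ∈ W ∧ Order.coheight y = 1 ∧ ordS F y s ≠ Scheme.ord f y}
  have hBfin : B.Finite := (hf₁.union hf₂).subset fun y ⟨hyW, hy, hne⟩ => by
    by_cases h0 : ordS F y s = 0
    · exact Or.inr ⟨(hW hyW).2, hy, by rw [hord y hy]; exact fun h => hne (h0.trans h.symm)⟩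
    · exact Or.inl ⟨(hW hyW).1, hy, h0⟩
  let C : Set X := ⋃ y ∈ B, closure {y}
  have hC : IsClosed C := hBfin.isClosed_biUnion fun y _ => isClosed_closure
  refine mem_nhds_iff.mpr ⟨W ∩ Cᶜ, fun z hz => ⟨f, hf, fun y hy hyz => ?_⟩, hWo.inter hC.isOpen_compl,
    hxW, fun hxC => ?_⟩
  · by_contra hne
    exact hz.2 (Set.mem_biUnion (⟨hyz.mem_open hWo hz.1, hy, hne⟩ : y ∈ B) hyz.mem_closure)
  · obtain ⟨y, hy, hyx⟩ := Set.mem_iUnion₂.mp hxC
    exact hy.2.2 (hfy y hy.2.1 (specializes_iff_mem_closure.mpr hyx))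

include hX in
/-- A divisor is locally principal when the local rings are parafactorial where it might fail to be
principal. -/
theorem isInvertible_of_parafactorial {F : X.Modules} (hF : RefHull.IsRef1 F)
    {s : F.presheaf.stalk (genericPoint X)} (hs : s ≠ 0)
    (hpar : ∀ x : X, ¬ PrincipalAt F s x → (2 : WithBot ℕ∞) ≤ ringKrullDim (X.presheaf.stalk x) →
      ParaF.IsParafactorialLocalRing (X.presheaf.stalk x)) :
    PicF.IsInvertible F := by
  let G : X.Opens := ⟨{x | PrincipalAt F s x}, isOpen_principal hX hF hs⟩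
  have hsmall : ∀ x : X, Order.coheight x ≤ 1 → x ∈ G := fun x hx =>
    principalAt_of_coheight_le_one hX hF hs hx
  let Y : Closeds X := G.compl
  have hYc : Y.compl = G := TopologicalSpace.Opens.ext (compl_compl _)
  have hpair : ParaF.IsParafactorialPair X Y := by
    refine (S2831.result X Y).mpr fun y hy => hpar y hy ?_
    rw [ringKrullDim_stalk_eq_coheight]
    have : ¬ Order.coheight y ≤ 1 := fun h => hy (hsmall y h)
    exact WithBot.coe_le_coe.mpr (Order.add_one_le_of_lt (not_le.mp this) : (2 : ℕ∞) ≤ Order.coheight y)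
  obtain ⟨-, hext⟩ := (ParaFLib.pair_iff Y).mp hpair
  let j : (((⊤ : X.Opens) ⊓ Y.compl : X.Opens) : Scheme.{u}) ⟶ ((⊤ : X.Opens) : Scheme.{u}) :=
    X.homOfLE inf_le_left
  have hG : ∀ z ∈ ((⊤ : X.Opens) ⊓ Y.compl), z ∈ G := fun z hz => hYc.le hz.2
  have hinv : PicF.IsInvertible (F.restrict ((⊤ : X.Opens) ⊓ Y.compl).ι) :=
    ParaFLib.Factorial.isInvertible_restrict _ F fun x hx =>
      exists_triv_of_stalks F hF.1 G (fun y hy => nonempty_basis_of_principal hX hF hs hy) (hG x hx)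
  obtain ⟨L, hL, ⟨e⟩⟩ := hext ⊤ _ hinv
  -- `L` on `X`
  let L' : X.Modules := (Scheme.Modules.pushforward (⊤ : X.Opens).ι).obj L
  have r : L'.restrict (⊤ : X.Opens).ι ≅ L := ParaFLib.restrictPushforwardIso _ L
  have hL' : PicF.IsInvertible L' := ParaFLib.isInvertible_of_local fun z =>
    ⟨⊤, trivial, PicCl.isInvertible_of_iso r.symm hL⟩
  have hL1 := ExtPowSt.isRef1_of_isInvertible hL'
  let K : X.Opens := (⊤ : X.Opens) ⊓ Y.compl
  let θ : L'.restrict K.ι ≅ F.restrict K.ι :=
    (Scheme.Modules.restrictFunctorCongr (X.homOfLE_ι (inf_le_left : K ≤ ⊤)).symm).app L' ≪≫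
      (Scheme.Modules.restrictFunctorComp j (⊤ : X.Opens).ι).app L' ≪≫
      (Scheme.Modules.restrictFunctor j).mapIso r ≪≫ e
  have hP : ∀ x, PrincipalAt F s x := fun x => by
    obtain ⟨D, hxD, ⟨i⟩⟩ := hL' x
    obtain ⟨a⟩ := ParaFLib.Factorial.restrict_le_iso F (inf_le_right : D ⊓ K ≤ K)
    obtain ⟨a'⟩ := ParaFLib.Factorial.restrict_le_iso L' (inf_le_right : D ⊓ K ≤ K)
    obtain ⟨b⟩ := ParaFLib.Factorial.restrict_le_iso L' (inf_le_left : D ⊓ K ≤ D)
    let ψ : F.restrict (D ⊓ K).ι ≅ Coh.structureModule ((D ⊓ K : X.Opens) : Scheme.{u}) :=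
      a ≪≫ (Scheme.Modules.restrictFunctor _).mapIso θ.symm ≪≫ a'.symm ≪≫ b ≪≫
        (Scheme.Modules.restrictFunctor _).mapIso i ≪≫ Scheme.Modules.restrictUnitIso _
    obtain ⟨g, hg⟩ := LFFrame.exists_isFrame_of_split (M := F) (fun _ : Fin 1 => ψ.inv) (fun _ => ψ.hom)
      (fun i j => by simp [Subsingleton.elim i j]) (by simp)
    have hηK : genericPoint X ∈ K := ⟨trivial, hYc.ge (hsmall _ (by
      rw [Order.coheight_eq_zero.mpr fun z _ => hsp z]
      exact zero_le_one))⟩
    have hη : genericPoint X ∈ D ⊓ K := ⟨(hsp x).mem_open D.2 hxD, hηK⟩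
    have hrk := rankOne_of_isRef1 hF
    obtain ⟨φ, hsφ⟩ := hrk.exists_smul (isGenAt_of_frame hg hη).2 s
    have hφ : φ ≠ 0 := fun h => hs (by rw [hsφ, h, zero_smul])
    refine ⟨φ, hφ, fun y hy hyx => ?_⟩
    have hyV : y ∈ D ⊓ K := ⟨hyx.mem_open D.2 hxD, ⟨trivial, hYc.ge (hsmall y hy.le)⟩⟩
    rw [← ordS_eq hrk hy (isGenAt_of_frame hg hyV) hφ, hsφ]
    refine congrArg (fun t => ordS F y (φ • t)) ?_
    exact (sp_germ F _ hη _).trans (sp_germ F (hsp y) hyV (g 0)).symm
  intro x
  exact exists_triv_of_stalks F hF.1 ⊤ (fun y _ => nonempty_basis_of_principal hX hF hs (hP y)) trivial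

end Groth.Agent.Div61
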