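import Groth.Agent.Div61.Descent
import Groth.Agent.GrpScheme.HomFlat

/-!
# Divisors on the base changed to the spectrum of a local ring
-/

set_option autoImplicit false
set_option linter.style.haveILetI false
set_option backward.isDefEq.respectTransparency.types false

universe u

open CategoryTheory CategoryTheory.Limits AlgebraicGeometry TopologicalSpace Opposite IsLocalRing

noncomputable section

namespace Groth.Agent.Div61

open IntMult (stalkIdeal)

theorem pull_comp {X' X Y : Scheme.{u}} (g : X' ⟶ X) (f : X ⟶ Y) {y : Y} {x : X'}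
    (h : (g ≫ f) x ⤳ y) (h' : f (g x) ⤳ y) (a : Y.presheaf.stalk y) :
    pull (g ≫ f) h a = g.stalkMap x (pull f h' a) := by
  obtain ⟨V, hy, s, rfl⟩ := Y.presheaf.exists_germ_eq a
  rw [pull_germ, pull_germ, g.germ_stalkMap_apply]
  rfl

theorem pull_congr {X Y : Scheme.{u}} {g g' : X ⟶ Y} (e : g = g') {y : Y} {x : X} (h : g x ⤳ y)
    (h' : g' x ⤳ y) : pull g h = pull g' h' := by
  subst e; rfl

/-- An equation on `Spec O_y` gives the local data. -/
theorem localEq_of_spec {X Y : Scheme.{u}} (f : X ⟶ Y) [IsLocallyNoetherian Y] [Flat f]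
    (𝓙 : X.IdealSheafData) (y : Y) (𝓘₁ : (Spec (Y.presheaf.stalk y)).IdealSheafData)
    (h₁ : BlowUp.IsEffCartierIdeal 𝓘₁)
    (e : 𝓘₁.comap (pullback.snd f (Y.fromSpecStalk y)) = 𝓙.comap (pullback.fst f (Y.fromSpecStalk y))) :
    LocalEq f 𝓙 y := by
  let g := Y.fromSpecStalk y
  let c₀ : (Spec (Y.presheaf.stalk y) : Scheme.{u}) := closedPoint (Y.presheaf.stalk y)
  have hc₀ : g c₀ = y := Y.fromSpecStalk_closedPoint
  obtain ⟨b, -, hb⟩ := exists_regular_gen 𝓘₁ h₁ c₀
  obtain ⟨a₀, ha₀⟩ := g.stalkMap_surjective c₀ b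
  refine ⟨Y.presheaf.stalkSpecializes (specializes_of_eq hc₀.symm) a₀, fun x h => ?_⟩
  obtain ⟨q, hq⟩ : f x ∈ Set.range g := by
    rw [Scheme.range_fromSpecStalk]
    exact h
  obtain ⟨p, hp1, hp2⟩ := Scheme.Pullback.exists_preimage_pullback x q hq.symm
  have hqc : q ⤳ c₀ := IsLocalRing.specializes_closedPoint q
  subst hp1 hp2
  haveI := GrpScheme.HomFlat.flat_fromSpecStalk y
  haveI : Flat (pullback.fst f g) := inferInstance
  let fst := pullback.fst f g
  let snd := pullback.snd f g
  let _ : Algebra (X.presheaf.stalk (fst p)) ((pullback f g).presheaf.stalk p) := (fst.stalkMap p).hom.toAlgebra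
  have : Module.Flat (X.presheaf.stalk (fst p)) ((pullback f g).presheaf.stalk p) := Flat.stalkMap fst p
  have : IsLocalHom (algebraMap (X.presheaf.stalk (fst p)) ((pullback f g).presheaf.stalk p)) :=
    inferInstanceAs (IsLocalHom (fst.stalkMap p).hom)
  have : Module.FaithfullyFlat (X.presheaf.stalk (fst p)) ((pullback f g).presheaf.stalk p) :=
    Module.FaithfullyFlat.of_flat_of_isLocalHom
  have e1 : (stalkIdeal 𝓙 (fst p)).map (fst.stalkMap p).hom = (stalkIdeal 𝓘₁ (snd p)).map (snd.stalkMap p).hom := by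
    rw [← SDivFib.stalkIdeal_comap, ← SDivFib.stalkIdeal_comap, e]
  have hyc : y ⤳ g c₀ := specializes_of_eq hc₀.symm
  have h2 : g (snd p) ⤳ g c₀ := hqc.map g.continuous
  have hfst : f (fst p) ⤳ g c₀ := h.trans hyc
  have e2 : stalkIdeal 𝓘₁ (snd p) = Ideal.span {pull g h2 a₀} := by
    rw [map_stalkIdeal_sp 𝓘₁ hqc, hb, ← ha₀, Ideal.map_span, Set.image_singleton, ← pull_self g c₀ a₀]
    exact congrArg (fun t => Ideal.span {t}) (pull_specializes g (specializes_refl _) hqc h2 a₀)
  have e3 : snd.stalkMap p (pull g h2 a₀) =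
      fst.stalkMap p (pull f h (Y.presheaf.stalkSpecializes hyc a₀)) := by
    rw [pull_sp f hfst hyc h]
    refine Eq.trans (pull_comp snd g (y := g c₀) (x := p) h2 h2 a₀).symm ?_
    refine Eq.trans ?_ (pull_comp fst f (y := g c₀) (x := p) hfst hfst a₀)
    rw [pull_congr (pullback.condition.symm : snd ≫ g = fst ≫ f) h2 hfst]
  rw [← Ideal.comap_map_eq_self_of_faithfullyFlat (B := (pullback f g).presheaf.stalk p)
    (stalkIdeal 𝓙 (fst p)), ← Ideal.comap_map_eq_self_of_faithfullyFlat (B := (pullback f g).presheaf.stalk p)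
    (Ideal.span {pull f h (Y.presheaf.stalkSpecializes hyc a₀)})]
  refine congrArg (Ideal.comap _) ?_
  refine e1.trans ?_
  rw [e2, Ideal.map_span, Set.image_singleton, Ideal.map_span, Set.image_singleton]
  exact congrArg (fun t => Ideal.span {t}) e3

end Groth.Agent.Div61
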