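import Groth.Agent.Div61.Principal
import Groth.Agent.S2834

/-!
# Factoriality from realising point divisors by line bundles
-/

set_option autoImplicit false
set_option backward.isDefEq.respectTransparency.types false
set_option linter.style.haveILetI false

universe u

open CategoryTheory AlgebraicGeometry TopologicalSpace

noncomputable section

namespace Groth.Agent.Div61

open Groth.Agent.Ref1

/-- A Noetherian domain whose height one primes are principal is factorial. -/
theorem ufd_of_height_one {A : Type u} [CommRing A] [IsDomain A] [IsNoetherianRing A]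
    (h : ∀ p : Ideal A, p.IsPrime → p.height = 1 → p.IsPrincipal) : UniqueFactorizationMonoid A := by
  refine UniqueFactorizationMonoid.iff_exists_prime_mem_of_isPrime.mpr fun P hP hPp => ?_
  obtain ⟨a, haP, ha⟩ := Submodule.exists_mem_ne_zero_of_ne_bot hP
  obtain ⟨p, hp, hpP⟩ := Ideal.exists_minimalPrimes_le ((Ideal.span_singleton_le_iff_mem P).mpr haP)
  have hpr : p.IsPrime := hp.1.1
  have hpne : p ≠ ⊥ := fun h0 => ha (by
    have := hp.1.2 (Ideal.mem_span_singleton_self a)
    rwa [h0, Ideal.mem_bot] at this)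
  have hht : p.height = 1 := by
    refine le_antisymm (Ideal.height_le_one_of_isPrincipal_of_mem_minimalPrimes _ _ hp) ?_
    refine ENat.one_le_iff_ne_zero.mpr fun h0 => hpne ?_
    exact le_bot_iff.mp ((Ideal.height_eq_zero_iff.mp h0).2 ⟨Ideal.isPrime_bot, le_rfl⟩ bot_le)
  obtain ⟨g, hg⟩ := (h p hpr hht).principal
  have hg0 : g ≠ 0 := fun h0 => hpne (by rw [hg, h0]; exact Submodule.span_zero_singleton A)
  refine ⟨g, hpP (by rw [hg]; exact Submodule.mem_span_singleton_self g), ?_⟩
  exact (Ideal.span_singleton_prime hg0).mp (by rwa [show Ideal.span {g} = p from hg.symm])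

variable {X : Scheme.{u}} [IsIntegral X] [IsLocallyNoetherian X]

/-- Elements with nonnegative orders at all codimension one generisations are regular. -/
theorem mem_range_of_ord_nonneg (hX : Pi1.IsNormalScheme X) (x : X) {a : X.presheaf.stalk (genericPoint X)}
    (ha : a ≠ 0) (h : ∀ y : X, Order.coheight y = 1 → y ⤳ x → 0 ≤ Scheme.ord a y) :
    a ∈ Set.range (toK x) := by
  refine mem_range_toK_of_codim_one hX x a fun y hyx hy => ?_
  have hy' := coheight_eq_one hy
  obtain ⟨_, hD⟩ := VarDim.isDiscreteValuationRing_stalk_of_coheight_eq_one hX y hy'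
  rcases ValuationRing.isInteger_or_isInteger (X.presheaf.stalk y) (a : X.functionField) with ⟨c, hc⟩ | ⟨c, hc⟩
  · exact ⟨c, hc⟩
  · have hc0 : c ≠ 0 := fun h0 => inv_ne_zero (show (a : X.functionField) ≠ 0 from ha) (by rw [← hc, h0, map_zero])
    have h1 : Scheme.ord (toK y c) y = - Scheme.ord a y := by
      rw [toK_eq_algebraMap, hc]
      exact ord_inv' ha
    have h2 := h y hy' hyx
    have h3 : (0 : ℤ) ≤ Scheme.ord (toK y c) y := by
      rw [ord_toK hy' hc0]
      exact Int.natCast_nonneg _
    have h4 : Scheme.ord (a : X.functionField) y = 0 := by omega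
    obtain ⟨b, -, hb⟩ := exists_unit_of_ord_eq_zero hy' (show (a : X.functionField) ≠ 0 from ha) h4
    exact ⟨b, hb⟩

/-- Factoriality of the local rings when point divisors come from line bundles. -/
theorem ufd_stalk (hX : Pi1.IsNormalScheme X)
    (h : ∀ Z : X → ℤ, (∀ x : X, Order.coheight x ≠ 1 → Z x = 0) →
      (∀ x : X, ∃ W : X.Opens, x ∈ W ∧ {z : X | z ∈ W ∧ Z z ≠ 0}.Finite) →
      ∃ (L : X.Modules) (_ : PicF.IsInvertible L) (s : Cyc.secFibre L (genericPoint X)), s ≠ 0 ∧
        ∀ x : X, Order.coheight x = 1 →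
          Cyc.secOrdAt L (genericPoint X) x (genericPoint_specializes x) s = Z x)
    (x : X) : UniqueFactorizationMonoid (X.presheaf.stalk x) := by
  classical
  refine ufd_of_height_one fun p hp hp1 => ?_
  obtain ⟨y, hyx, hyp⟩ := CDivLib.exists_genPrime_eq p
  have hy : Order.coheight y = 1 := by rw [← CDivLib.height_genPrime hyx, hyp, hp1]
  obtain ⟨L, hL, s, hs, hord⟩ := h (fun z => if z = y then 1 else 0)
    (fun z hz => if_neg fun he : z = y => hz (by rw [he]; exact hy))
    (fun z => ⟨⊤, trivial, (Set.finite_singleton y).subset fun w hw => by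
      by_contra hne
      exact hw.2 (if_neg hne)⟩)
  obtain ⟨s', rfl⟩ := Submodule.Quotient.mk_surjective _ s
  obtain ⟨f, hf, hfy⟩ := principalAt_of_isInvertible hL
    (fun h0 : s' = 0 => hs (by rw [h0, Submodule.Quotient.mk_zero])) x
  have hf' : ∀ z : X, Order.coheight z = 1 → z ⤳ x → Scheme.ord f z = if z = y then (1 : ℤ) else 0 :=
    fun z hz hzx => (hfy z hz hzx).symm.trans (hord z hz)
  obtain ⟨g, hg⟩ := mem_range_of_ord_nonneg hX x hf fun z hz hzx => by
    rw [hf' z hz hzx]; split_ifs <;> omega
  have hg0 : g ≠ 0 := fun h0 => hf (by rw [← hg, h0, map_zero])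
  -- elements of `p` have positive order at `y`
  have hmem : ∀ a : X.presheaf.stalk x, a ≠ 0 → (a ∈ p ↔ Scheme.ord (toK x a) y ≠ 0) := fun a ha => by
    obtain ⟨_, hD⟩ := VarDim.isDiscreteValuationRing_stalk_of_coheight_eq_one hX y hy
    have e : toK x a = toK y (spR hyx a) := (spR_spR (hsp y) hyx a).symm
    have ha' : spR hyx a ≠ 0 := fun h0 => toK_ne_zero ha (by rw [e, h0, map_zero])
    rw [e, ← hyp]
    show spR hyx a ∈ nonunits _ ↔ _
    constructor
    · intro hu h0
      obtain ⟨c, hc, hce⟩ := exists_unit_of_ord_eq_zero hy (show (toK y (spR hyx a) : X.functionField) ≠ 0 from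
        toK_ne_zero ha') h0
      exact hu (toK_injective y hce ▸ hc)
    · intro h0 hu
      exact h0 (ord_toK_of_isUnit hy hu)
  refine ⟨g, le_antisymm (fun a ha => ?_) ((Ideal.span_singleton_le_iff_mem p).mpr ?_)⟩
  · by_cases ha0 : a = 0
    · rw [ha0]; exact zero_mem _
    let q : X.functionField := (toK x a : X.functionField) / (f : X.functionField)
    have hq : q ≠ 0 := div_ne_zero (toK_ne_zero ha0) hf
    obtain ⟨b, hb⟩ := mem_range_of_ord_nonneg hX x (a := q) hq fun z hz hzx => by
      obtain ⟨_, hD⟩ := VarDim.isDiscreteValuationRing_stalk_of_coheight_eq_one hX z hz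
      have e : toK x a = toK z (spR hzx a) := (spR_spR (hsp z) hzx a).symm
      have h1 : Scheme.ord (toK x a) z = Scheme.ord q z + Scheme.ord f z := by
        rw [← ord_mul' (y := z) (a := q) (b := f) hq hf]
        exact congrArg (fun t => Scheme.ord t z) (div_mul_cancel₀ (toK x a : X.functionField) hf).symm
      have hnn : (0 : ℤ) ≤ Scheme.ord (toK x a) z := by
        rw [e, ord_toK hz fun h0 => toK_ne_zero ha0 (by rw [e, h0, map_zero])]
        exact Int.natCast_nonneg _
      rw [hf' z hz hzx] at h1
      split_ifs at h1 with he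
      · subst he
        have := (hmem a ha0).mp ha
        omega
      · omega
    refine Ideal.mem_span_singleton.mpr ⟨b, toK_injective x ?_⟩
    rw [map_mul, hg, hb]
    exact (mul_div_cancel₀ (toK x a : X.functionField) hf).symm
  · rw [hmem g hg0, hg, hf' y hy hyx, if_pos rfl]
    exact one_ne_zero

end Groth.Agent.Div61
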