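import Groth.Agent.Div61.Descent
import Groth.Agent.FlatMor.FibreStalk
import Groth.Agent.ParaFLib.PicUFD
import Mathlib.RingTheory.DiscreteValuationRing.TFAE

/-!
# Descent of effective divisors to a normal base with fibres free of embedded points in codimension one
-/

set_option autoImplicit false
set_option linter.style.haveILetI false
set_option backward.isDefEq.respectTransparency.types false

universe u

open CategoryTheory CategoryTheory.Limits AlgebraicGeometry TopologicalSpace Opposite IsLocalRing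

noncomputable section

namespace Groth.Agent.Div61

open IntMult (stalkIdeal)

theorem isDiscreteValuationRing_of_normal {A : Type u} [CommRing A] [IsDomain A] [IsLocalRing A] [IsNoetherianRing A]
    [IsIntegrallyClosed A] (h : ringKrullDim A = 1) : IsDiscreteValuationRing A := by
  have hne : maximalIdeal A ≠ ⊥ := fun h0 => by
    have hF : IsField A := IsLocalRing.isField_iff_maximalIdeal_eq.mpr h0
    rw [ringKrullDim_eq_zero_of_isField hF] at h
    exact absurd h (by norm_num)
  have hF : ¬ IsField A := fun hF => hne (IsLocalRing.isField_iff_maximalIdeal_eq.mp hF)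
  refine ((IsDiscreteValuationRing.TFAE A hF).out 0 3 rfl rfl).mpr ⟨inferInstance, maximalIdeal A, ⟨hne, inferInstance⟩, ?_⟩
  rintro P ⟨hP, hPp⟩
  by_contra hne'
  have hlt : P < maximalIdeal A := lt_of_le_of_ne (le_maximalIdeal hPp.ne_top) hne'
  have hPm : ⊥ < P := bot_lt_iff_ne_bot.mpr hP
  let s : LTSeries (PrimeSpectrum A) := ((RelSeries.singleton _ ⟨⊥, Ideal.isPrime_bot⟩).snoc ⟨P, hPp⟩ hPm).snoc
    ⟨maximalIdeal A, inferInstance⟩ (by rw [RelSeries.last_snoc]; exact hlt)
  have h2 : ((2 : ℕ) : WithBot ℕ∞) ≤ ringKrullDim A := Order.LTSeries.length_le_krullDim s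
  rw [h] at h2
  exact absurd h2 (by norm_num)

theorem ideal_top_comap_fromSpecStalk {X : Scheme.{u}} (𝓙 : X.IdealSheafData) (x : X) :
    (𝓙.comap (X.fromSpecStalk x)).ideal ⟨⊤, isAffineOpen_top _⟩ =
      (stalkIdeal 𝓙 x).map (Scheme.ΓSpecIso (X.presheaf.stalk x)).inv.hom := by
  obtain ⟨U, hx, -⟩ := IdealSh.Comap.exists_affine_le x ⊤ trivial
  have htop : (⊤ : (Spec (X.presheaf.stalk x)).Opens) ≤ X.fromSpecStalk x ⁻¹ᵁ U.1 := fun q _ => by
    have hq : X.fromSpecStalk x q ∈ Set.range (X.fromSpecStalk x) := ⟨q, rfl⟩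
    rw [Scheme.range_fromSpecStalk] at hq
    exact (hq : X.fromSpecStalk x q ⤳ x).mem_open U.1.2 hx
  rw [IdealSh.Comap.ideal_comap 𝓙 (X.fromSpecStalk x) U ⟨⊤, isAffineOpen_top _⟩ htop,
    IdealSh.stalkIdeal_eq _ U hx, Ideal.map_map, ← CommRingCat.hom_comp]
  congr 2
  rw [Scheme.Hom.appLE, Scheme.fromSpecStalk_app hx, Category.assoc, Category.assoc, ← Functor.map_comp]
  have e : ((homOfLE le_top : X.fromSpecStalk x ⁻¹ᵁ U.1 ⟶ ⊤).op ≫ (homOfLE htop).op) = 𝟙 _ := Subsingleton.elim _ _
  rw [e, (Spec (X.presheaf.stalk x)).presheaf.map_id, Category.comp_id]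

variable {X Y : Scheme.{u}} (f : X ⟶ Y) [IsLocallyNoetherian X] [IsLocallyNoetherian Y]

omit [IsLocallyNoetherian X] [IsLocallyNoetherian Y] in
/-- Triviality on a fibre is triviality of the stalks along it. -/
theorem stalkIdeal_eq_top_of_fibre (𝓙 : X.IdealSheafData) {η : Y} (h : 𝓙.comap (f.fiberι η) = ⊤) {x : X}
    (hx : f x = η) : stalkIdeal 𝓙 x = ⊤ := by
  subst hx
  rw [IdealSh.stalkIdeal_eq_top_iff]
  intro hmem
  have h1 : f.asFiber x ∈ (𝓙.comap (f.fiberι (f x))).support := by
    rw [Scheme.IdealSheafData.support_comap]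
    show f.fiberι (f x) (f.asFiber x) ∈ 𝓙.support
    rw [f.fiberι_asFiber x]
    exact hmem
  rw [h, Scheme.IdealSheafData.support_top] at h1
  exact h1

omit [IsLocallyNoetherian Y] in
/-- A point whose fibre ring has the maximal ideal associated is a maximal point of the fibre. -/
theorem isMax_of_colon {y : Y}
    (hfib : ∀ z z' : ↥(f.fiber y),
      IsAssociatedPrime (IsLocalRing.maximalIdeal ↑((f.fiber y).presheaf.stalk z)) ↑((f.fiber y).presheaf.stalk z) →
      IsAssociatedPrime (IsLocalRing.maximalIdeal ↑((f.fiber y).presheaf.stalk z')) ↑((f.fiber y).presheaf.stalk z') →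
      z' ⤳ z → z' = z)
    {x : X} (hx : f x = y) (w : X.presheaf.stalk x)
    (hw : w ∉ (maximalIdeal (Y.presheaf.stalk (f x))).map (f.stalkMap x).hom)
    (hann : ∀ r ∈ maximalIdeal (X.presheaf.stalk x),
      r * w ∈ (maximalIdeal (Y.presheaf.stalk (f x))).map (f.stalkMap x).hom) :
    ∀ z : X, f z = y → z ⤳ x → z = x := by
  classical
  have assoc : ∀ (x : X) (hx : f x = y) (w : X.presheaf.stalk x),
      w ∉ (maximalIdeal (Y.presheaf.stalk (f x))).map (f.stalkMap x).hom →
      (∀ r ∈ maximalIdeal (X.presheaf.stalk x),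
        r * w ∈ (maximalIdeal (Y.presheaf.stalk (f x))).map (f.stalkMap x).hom) →
      ∃ z : f.fiber y, f.fiberι y z = x ∧
        IsAssociatedPrime (maximalIdeal ((f.fiber y).presheaf.stalk z)) ((f.fiber y).presheaf.stalk z) := by
    intro x hx w hw hann
    subst hx
    refine ⟨f.asFiber x, f.fiberι_asFiber x, ?_⟩
    obtain ⟨φ, hφ, hk⟩ := FlatMor.FibreStalk.exists_fibre_stalk f x
    let R := (f.fiber (f x)).presheaf.stalk (f.asFiber x)
    have : IsNoetherianRing R := isNoetherianRing_of_surjective _ _ φ hφ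
    have hφm : (maximalIdeal (X.presheaf.stalk x)).map φ = maximalIdeal R :=
      IsLocalRing.map_maximalIdeal_of_surjective φ hφ
    refine isAssociatedPrime_iff.mpr ⟨inferInstance, φ w, le_antisymm ?_ ?_⟩
    · rw [← hφm, Ideal.map_le_iff_le_comap]
      intro r hr
      rw [Ideal.mem_comap, Submodule.mem_colon_singleton, Submodule.mem_bot, smul_eq_mul, ← map_mul,
        ← RingHom.mem_ker, hk]
      exact hann r hr
    · refine le_maximalIdeal fun htop => hw ?_
      have h1 : (1 : R) ∈ Submodule.colon (⊥ : Submodule R R) {φ w} := htop ▸ trivial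
      rw [Submodule.mem_colon_singleton, Submodule.mem_bot, one_smul, ← RingHom.mem_ker, hk] at h1
      exact h1
  intro z hz hzx
  -- a minimal prime of the fibre ring below `z`
  let B := X.presheaf.stalk x
  let I := (maximalIdeal (Y.presheaf.stalk (f x))).map (f.stalkMap x).hom
  have hIz : I ≤ CDivLib.genPrime hzx := by
    rw [Ideal.map_le_iff_le_comap]
    intro a ha hu
    have h1 : IsUnit (Y.presheaf.stalkSpecializes (hzx.map f.continuous) a) := by
      rw [← Scheme.Hom.stalkSpecializes_stalkMap_apply f z x hzx] at hu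
      exact isUnit_of_map_unit (f.stalkMap z).hom _ hu
    have h2 : f x ⤳ f z := specializes_of_eq (hx.trans hz.symm)
    have h3 := h1.map (Y.presheaf.stalkSpecializes h2).hom
    rw [TopCat.Presheaf.stalkSpecializes_comp_apply, TopCat.Presheaf.stalkSpecializes_refl] at h3
    exact ha h3
  haveI := CDivLib.genPrime_isPrime hzx
  obtain ⟨q, hq, hqz⟩ := Ideal.exists_minimalPrimes_le hIz
  haveI := hq.1.1
  obtain ⟨x₀, hx₀, hx₀q⟩ := CDivLib.exists_genPrime_eq q
  have hx₀z : x₀ ⤳ z := specializes_of_genPrime_le hx₀ hzx (hx₀q ▸ hqz)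
  have hfx₀ : f x₀ = y := by
    have hfx : f x₀ ⤳ f x := hx₀.map f.continuous
    have h1 : CDivLib.genPrime (specializes_refl (f x)) ≤ CDivLib.genPrime hfx := by
      intro a ha
      have h2 : f.stalkMap x a ∈ q := hq.1.2 (Ideal.mem_map_of_mem _ (by
        simpa [CDivLib.genPrime] using ha))
      rw [← hx₀q] at h2
      intro hu
      apply h2
      show IsUnit (X.presheaf.stalkSpecializes hx₀ (f.stalkMap x a))
      rw [← Scheme.Hom.stalkSpecializes_stalkMap_apply f x₀ x hx₀]
      exact hu.map _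
    exact ((specializes_of_genPrime_le _ hfx h1).antisymm hfx).eq.symm.trans hx
  -- the maximal ideal at `x₀` is nilpotent in the fibre
  have hmin : ∀ P : Ideal (X.presheaf.stalk x₀), P.IsPrime →
      (maximalIdeal (Y.presheaf.stalk (f x₀))).map (f.stalkMap x₀).hom ≤ P → P = maximalIdeal _ := by
    intro P hP hle
    obtain ⟨x₁, hx₁, hx₁P⟩ := CDivLib.exists_genPrime_eq P
    haveI := CDivLib.genPrime_isPrime (hx₁.trans hx₀)
    have hfx : f x ⤳ f x₀ := specializes_of_eq (hx.trans hfx₀.symm)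
    have h1 : q ≤ CDivLib.genPrime (hx₁.trans hx₀) := by
      refine hq.2 ⟨inferInstance, Ideal.map_le_iff_le_comap.mpr fun a ha => ?_⟩ ?_
      · have ha' : Y.presheaf.stalkSpecializes (hx₀.map f.continuous) a ∈ maximalIdeal (Y.presheaf.stalk (f x₀)) :=
          fun hu => ha (by
            have h3 := hu.map (Y.presheaf.stalkSpecializes hfx).hom
            rwa [TopCat.Presheaf.stalkSpecializes_comp_apply, TopCat.Presheaf.stalkSpecializes_refl] at h3)
        have h2 := hle (Ideal.mem_map_of_mem _ ha')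
        rw [← hx₁P] at h2
        show X.presheaf.stalkSpecializes (hx₁.trans hx₀) (f.stalkMap x a) ∈ maximalIdeal _
        rw [← TopCat.Presheaf.stalkSpecializes_comp_apply _ hx₁ hx₀,
          ← Scheme.Hom.stalkSpecializes_stalkMap_apply f x₀ x hx₀]
        exact h2
      · rw [← hx₀q]
        intro c hc
        have hc' : X.presheaf.stalkSpecializes hx₁ (X.presheaf.stalkSpecializes hx₀ c) ∈ maximalIdeal _ := by
          rw [TopCat.Presheaf.stalkSpecializes_comp_apply]; exact hc
        exact fun hu => hc' (hu.map (X.presheaf.stalkSpecializes hx₁).hom)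
    have h2 : x₁ = x₀ := (hx₁.antisymm (specializes_of_genPrime_le hx₀ (hx₁.trans hx₀) (hx₀q.le.trans h1))).eq
    subst h2
    rw [← hx₁P]
    simp [CDivLib.genPrime]
  obtain ⟨w₀, hw₀, hann₀⟩ : ∃ w₀, w₀ ∉ (maximalIdeal (Y.presheaf.stalk (f x₀))).map (f.stalkMap x₀).hom ∧
      ∀ r ∈ maximalIdeal (X.presheaf.stalk x₀),
        r * w₀ ∈ (maximalIdeal (Y.presheaf.stalk (f x₀))).map (f.stalkMap x₀).hom := by
    let I₀ := (maximalIdeal (Y.presheaf.stalk (f x₀))).map (f.stalkMap x₀).hom
    have hne : I₀ ≠ ⊤ := fun h => (maximalIdeal.isMaximal (X.presheaf.stalk x₀)).ne_top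
      (top_le_iff.mp (h ▸ ((local_hom_TFAE (f.stalkMap x₀).hom).out 0 2 rfl rfl).mp inferInstance))
    obtain ⟨P, hP, hle⟩ := exists_le_isAssociatedPrime_of_isNoetherianRing (X.presheaf.stalk x₀)
      (Ideal.Quotient.mk I₀ 1) (fun h => hne ((Ideal.eq_top_iff_one _).mpr (Ideal.Quotient.eq_zero_iff_mem.mp h)))
    obtain ⟨hPp, u, hu⟩ := isAssociatedPrime_iff.mp hP
    obtain ⟨u, rfl⟩ := Ideal.Quotient.mk_surjective u
    have hmem : ∀ r, r ∈ P ↔ r * u ∈ I₀ := fun r => by
      rw [hu, Submodule.mem_colon_singleton, Submodule.mem_bot, ← Ideal.Quotient.mk_eq_mk,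
        ← Submodule.Quotient.mk_smul, smul_eq_mul, Submodule.Quotient.mk_eq_zero]
    have hPm : P = maximalIdeal _ := hmin P hPp fun r hr => (hmem r).mpr (Ideal.mul_mem_right _ _ hr)
    exact ⟨u, fun hu' => hPp.ne_top ((Ideal.eq_top_iff_one _).mpr ((hmem 1).mpr (by rwa [one_mul]))),
      fun r hr => (hmem r).mp (hPm ▸ hr)⟩
  obtain ⟨z₁, hz₁, ha₁⟩ := assoc x hx w hw hann
  obtain ⟨z₀, hz₀, ha₀⟩ := assoc x₀ hfx₀ w₀ hw₀ hann₀
  have he : z₀ = z₁ := hfib z₁ z₀ ha₁ ha₀ ((f.fiberι y).isEmbedding.isInducing.specializes_iff.mp (by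
    rw [hz₁, hz₀]; exact hx₀))
  have : x₀ = x := by rw [← hz₀, ← hz₁, he]
  subst this
  exact (hzx.antisymm hx₀z).eq

variable [Flat f]

/-- The uniform order propagates from the maximal points of a fibre. -/
theorem eq_pow_on_fibre (𝓙 : X.IdealSheafData) (hJ : BlowUp.IsEffCartierIdeal 𝓙) {y : Y}
    [IsDomain (Y.presheaf.stalk y)] [IsDiscreteValuationRing (Y.presheaf.stalk y)]
    (hfib : ∀ z z' : ↥(f.fiber y),
      IsAssociatedPrime (IsLocalRing.maximalIdeal ↑((f.fiber y).presheaf.stalk z)) ↑((f.fiber y).presheaf.stalk z) →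
      IsAssociatedPrime (IsLocalRing.maximalIdeal ↑((f.fiber y).presheaf.stalk z')) ↑((f.fiber y).presheaf.stalk z') →
      z' ⤳ z → z' = z)
    (hgen : ∀ z : X, f z ⤳ y → f z ≠ y → stalkIdeal 𝓙 z = ⊤) (n : ℕ) {t : Y.presheaf.stalk y}
    (ht : maximalIdeal (Y.presheaf.stalk y) = Ideal.span {t})
    (hmax : ∀ (x : X) (h : f x ⤳ y), f x = y → (∀ z : X, f z = y → z ⤳ x → z = x) →
      stalkIdeal 𝓙 x = Ideal.span {pull f h (t ^ n)}) :
    ∀ (x : X) (h : f x ⤳ y), stalkIdeal 𝓙 x = Ideal.span {pull f h (t ^ n)} := by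
  classical
  have hη : ∀ (x : X) (h : f x ⤳ y), f x ≠ y → stalkIdeal 𝓙 x = Ideal.span {pull f h (t ^ n)} := by
    intro x h hne
    rw [hgen x h hne, eq_comm, Ideal.span_singleton_eq_top]
    have hu' : IsUnit (Y.presheaf.stalkSpecializes h t) := by
      by_contra hnu
      refine hne ((h.antisymm (specializes_of_genPrime_le (specializes_refl y) h ?_)).eq)
      intro a ha
      have ha' : a ∈ maximalIdeal (Y.presheaf.stalk y) := by simpa [CDivLib.genPrime] using ha
      rw [ht, Ideal.mem_span_singleton'] at ha'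
      obtain ⟨c, rfl⟩ := ha'
      haveI := CDivLib.genPrime_isPrime h
      exact Ideal.mul_mem_left _ _ (show t ∈ CDivLib.genPrime h from hnu)
    rw [map_pow]
    exact (hu'.map (f.stalkMap x).hom).pow n
  by_contra hcon
  push Not at hcon
  obtain ⟨x₁, h₁, hx₁⟩ := hcon
  let S : Set X := {x | ∃ h : f x ⤳ y, stalkIdeal 𝓙 x ≠ Ideal.span {pull f h (t ^ n)}}
  obtain ⟨x, ⟨hxy, hbad⟩, hminx⟩ := (InvImage.wf (fun x : X => Order.coheight x) wellFounded_lt).has_min S ⟨x₁, h₁, hx₁⟩
  have hx : f x = y := by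
    by_contra hne
    exact hbad (hη x hxy hne)
  let B := X.presheaf.stalk x
  have hgood : ∀ (P : Ideal B) [P.IsPrime], P ≠ maximalIdeal B →
      (stalkIdeal 𝓙 x).map (algebraMap B (Localization.AtPrime P)) =
        (Ideal.span {pull f hxy (t ^ n)}).map (algebraMap B (Localization.AtPrime P)) := by
    intro P _ hP
    obtain ⟨x', hx', hx'P⟩ := CDivLib.exists_genPrime_eq P
    have hne : x' ≠ x := fun he => hP (by subst he; rw [← hx'P]; simp [CDivLib.genPrime]; rfl)
    have hlt : Order.coheight x' < Order.coheight x := by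
      refine Order.coheight_strictAnti (lt_of_le_not_ge hx' fun h' => hne (hx'.antisymm h').eq) ?_
      have h1 := ringKrullDim_stalk_eq_coheight (X := X) x
      by_contra htop
      have h2 : ringKrullDim (X.presheaf.stalk x) ≠ ⊤ := (ringKrullDim_lt_top).ne
      apply h2
      have h3 : Order.coheight x = ⊤ := by
        refine top_unique ?_
        have := Order.coheight_anti (show x ≤ x' from hx')
        rw [not_lt, top_le_iff] at htop
        rw [← htop]
        exact this
      rw [h1, h3]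
      rfl
    have hx'y : f x' ⤳ y := (hx'.map f.continuous).trans hxy
    have hgx : stalkIdeal 𝓙 x' = Ideal.span {pull f hx'y (t ^ n)} := by
      by_contra hb
      exact hminx x' ⟨hx'y, hb⟩ hlt
    letI := (X.presheaf.stalkSpecializes hx').hom.toAlgebra
    haveI : IsLocalization.AtPrime (X.presheaf.stalk x') P := by
      have hk : RingHom.ker (Cyc.specMap x x' hx') = P := (CycLib.ker_specMap_eq_comap x x' hx').trans hx'P
      subst hk
      exact CycLib.isLocalization_stalkSpecializes hx'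
    let e := IsLocalization.algEquiv P.primeCompl (X.presheaf.stalk x') (Localization.AtPrime P)
    have he : algebraMap B (Localization.AtPrime P) =
        e.toRingEquiv.toRingHom.comp (X.presheaf.stalkSpecializes hx').hom :=
      RingHom.ext fun c => (e.commutes c).symm
    rw [he, ← Ideal.map_map, ← Ideal.map_map, ← map_stalkIdeal_sp 𝓙 hx', hgx, Ideal.map_span (X.presheaf.stalkSpecializes hx').hom,
      Set.image_singleton]
    refine congrArg (fun c => (Ideal.span {c}).map _) ?_
    exact (pull_specializes f hxy hx' hx'y (t ^ n)).symm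
  obtain ⟨b, hb, hJb⟩ := exists_regular_gen 𝓙 hJ x
  let τ := pull f hxy t
  have hτn : pull f hxy (t ^ n) = τ ^ n := map_pow _ _ _
  have hI : (maximalIdeal (Y.presheaf.stalk (f x))).map (f.stalkMap x).hom = Ideal.span {τ} := by
    subst hx
    rw [ht, Ideal.map_span, Set.image_singleton]
    exact congrArg (fun c => Ideal.span {c}) (pull_self f x t).symm
  have hτ : τ ∈ nonZeroDivisors B := by
    subst hx
    let _ : Algebra (Y.presheaf.stalk (f x)) B := (f.stalkMap x).hom.toAlgebra
    have : Module.Flat (Y.presheaf.stalk (f x)) B := Flat.stalkMap f x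
    have ht0 : t ≠ 0 := fun h0 => IsDiscreteValuationRing.not_a_field (Y.presheaf.stalk (f x)) (by
      rw [ht, h0, Ideal.span_singleton_eq_bot])
    refine mem_nonZeroDivisors_iff_right.mpr fun z hz => regular_of_flat (A := Y.presheaf.stalk (f x)) (t := t)
      (fun e he => (mul_eq_zero.mp he).resolve_left ht0) ?_
    rw [mul_comm] at hz
    rw [← hz]
    exact congrArg (· * z) (pull_self f x t).symm
  -- it suffices to find a witness that `x` is associated in its fibre
  suffices hw : ∃ w, w ∉ Ideal.span {τ} ∧ ∀ r ∈ maximalIdeal B, r * w ∈ Ideal.span {τ} by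
    obtain ⟨w, hw, hann⟩ := hw
    exact hbad (hmax x hxy hx (isMax_of_colon f hfib hx w (hI.symm ▸ hw) (by rw [hI]; exact hann)))
  rw [hJb, hτn] at hbad
  have hgood' : ∀ (P : Ideal B) [P.IsPrime], P ≠ maximalIdeal B →
      (∃ s ∉ P, s * b ∈ Ideal.span {τ ^ n}) ∧ ∃ s ∉ P, s * τ ^ n ∈ Ideal.span {b} := by
    intro P _ hP
    have h1 := hgood P hP
    rw [hJb, hτn] at h1
    exact ⟨(IsLocalization.algebraMap_mem_map_algebraMap_iff P.primeCompl (Localization.AtPrime P) _ _).mp
      (h1.le (Ideal.mem_map_of_mem _ (Ideal.mem_span_singleton_self b))),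
      (IsLocalization.algebraMap_mem_map_algebraMap_iff P.primeCompl (Localization.AtPrime P) _ _).mp
      (h1.ge (Ideal.mem_map_of_mem _ (Ideal.mem_span_singleton_self _)))⟩
  have colon : ∀ c d : B, d ∉ Ideal.span {c} →
      (∀ (P : Ideal B) [P.IsPrime], P ≠ maximalIdeal B → ∃ s ∉ P, s * d ∈ Ideal.span {c}) →
      ∃ w, w ∉ Ideal.span {c} ∧ ∀ r ∈ maximalIdeal B, r * w ∈ Ideal.span {c} := by
    intro c d hd hloc
    obtain ⟨P, hP, hle⟩ := exists_le_isAssociatedPrime_of_isNoetherianRing B (Ideal.Quotient.mk (Ideal.span {c}) d)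
      (fun h => hd (Ideal.Quotient.eq_zero_iff_mem.mp h))
    obtain ⟨hPp, u, hu⟩ := isAssociatedPrime_iff.mp hP
    obtain ⟨u, rfl⟩ := Ideal.Quotient.mk_surjective u
    have hmem : ∀ v r : B, r ∈ Submodule.colon (⊥ : Submodule B (B ⧸ Ideal.span {c})) {Ideal.Quotient.mk _ v} ↔
        r * v ∈ Ideal.span {c} := fun v r => by
      rw [Submodule.mem_colon_singleton, Submodule.mem_bot, ← Ideal.Quotient.mk_eq_mk,
        ← Submodule.Quotient.mk_smul, smul_eq_mul, Submodule.Quotient.mk_eq_zero]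
    have hPm : P = maximalIdeal B := by
      by_contra hne
      obtain ⟨s, hs, hsd⟩ := hloc P hne
      exact hs (hle ((hmem d s).mpr hsd))
    exact ⟨u, fun hu' => hPp.ne_top ((Ideal.eq_top_iff_one _).mpr (by rw [hu, hmem, one_mul]; exact hu')),
      fun r hr => (hmem u r).mp (hu ▸ hPm ▸ hr)⟩
  by_cases h1 : b ∈ Ideal.span {τ ^ n}
  · have h2 : τ ^ n ∉ Ideal.span {b} := fun h2 => hbad (le_antisymm
      ((Ideal.span_singleton_le_iff_mem _).mpr h1) ((Ideal.span_singleton_le_iff_mem _).mpr h2))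
    obtain ⟨w, hw, hann⟩ := colon b (τ ^ n) h2 fun P _ hP => (hgood' P hP).2
    have hτm : τ ∈ maximalIdeal B := by
      subst hx
      intro hu
      have h3 : IsUnit t := isUnit_of_map_unit (f.stalkMap x).hom t ((pull_self f x t) ▸ hu)
      exact (maximalIdeal.isMaximal (Y.presheaf.stalk (f x))).ne_top (by rw [ht, Ideal.span_singleton_eq_top]; exact h3)
    obtain ⟨c, hc⟩ := Ideal.mem_span_singleton'.mp (hann τ hτm)
    refine ⟨c, fun hcτ => hw ?_, fun r hr => ?_⟩
    · obtain ⟨e, he⟩ := Ideal.mem_span_singleton'.mp hcτ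
      refine Ideal.mem_span_singleton'.mpr ⟨e, sub_eq_zero.mp (mem_nonZeroDivisors_iff_left.mp hτ _ ?_)⟩
      rw [mul_sub, ← hc, ← he]
      ring
    · obtain ⟨e, he⟩ := Ideal.mem_span_singleton'.mp (hann r hr)
      refine Ideal.mem_span_singleton'.mpr ⟨e, sub_eq_zero.mp (mem_nonZeroDivisors_iff_right.mp hb _ ?_)⟩
      rw [sub_mul, mul_assoc r, hc, mul_comm e τ, mul_assoc, he]
      ring
  · obtain ⟨w, hw, hann⟩ := colon (τ ^ n) b h1 fun P _ hP => (hgood' P hP).1
    have hex : ∃ k, w ∉ Ideal.span {τ ^ k} := ⟨n, hw⟩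
    obtain ⟨k, hk⟩ : ∃ k, Nat.find hex = k + 1 := Nat.exists_eq_succ_of_ne_zero fun h0 =>
      Nat.find_spec hex (by rw [h0, pow_zero, Ideal.span_singleton_one]; trivial)
    obtain ⟨w', hw'⟩ := Ideal.mem_span_singleton'.mp (not_not.mp (Nat.find_min hex (show k < Nat.find hex by omega)))
    have hkn : k + 1 ≤ n := hk ▸ Nat.find_le hw
    refine ⟨w', fun hm => Nat.find_spec hex ?_, fun r hr => ?_⟩
    · obtain ⟨e, he⟩ := Ideal.mem_span_singleton'.mp hm
      rw [hk, Ideal.mem_span_singleton']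
      exact ⟨e, by rw [← hw', ← he]; ring⟩
    · obtain ⟨j, hj⟩ := Nat.exists_eq_add_of_le hkn
      obtain ⟨e, he⟩ := Ideal.mem_span_singleton'.mp (hann r hr)
      refine Ideal.mem_span_singleton'.mpr ⟨e * τ ^ j, sub_eq_zero.mp
        (mem_nonZeroDivisors_iff_left.mp (pow_mem hτ k) _ ?_)⟩
      rw [← hw', hj] at he
      linear_combination he

end Groth.Agent.Div61
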